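import Groth.Prelude.Def_RegImm
import Mathlib

/-!
Syntomic algebras: fibre presentations, and finite algebras with as many relations as generators.
-/

universe u

open TensorProduct

namespace Groth.Agent.H9Synt

/-- Global complete intersections transport along isomorphisms. -/
theorem isGlobalCI_of_algEquiv {k S S' : Type u} [Field k] [CommRing S] [CommRing S'] [Algebra k S]
    [Algebra k S'] (e : S ≃ₐ[k] S') (h : Synt.IsGlobalCI k S) : Synt.IsGlobalCI k S' := by
  rcases h with h | ⟨n, c, hc, φ, r, hs, hker, hd⟩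
  · exact Or.inl e.toEquiv.symm.subsingleton
  · refine Or.inr ⟨n, c, hc, e.toAlgHom.comp φ, r, e.surjective.comp hs, ?_, ?_⟩
    · rw [← hker]
      exact RingHom.ker_comp_of_injective φ.toRingHom (f := e.toAlgHom.toRingHom) e.injective
    · rw [← ringKrullDim_eq_of_ringEquiv e.toRingEquiv]; exact hd

/-- A global complete intersection is a local one. -/
theorem isLCIOver_of_isGlobalCI {k S : Type u} [Field k] [CommRing S] [Algebra k S]
    [Algebra.FiniteType k S] (h : Synt.IsGlobalCI k S) : Synt.IsLCIOver k S := by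
  refine ⟨inferInstance, fun p => ⟨1, fun h1 => p.isPrime.ne_top ((Ideal.eq_top_iff_one _).mpr h1), ?_⟩⟩
  exact isGlobalCI_of_algEquiv
    ((IsLocalization.atUnits S (Submonoid.powers (1 : S)) (S := Localization.Away (1 : S))
      (by simp)).restrictScalars k) h

/-- Presentations base change. -/
theorem exists_presentation_baseChange {R : Type u} [CommRing R] (K : Type u) [CommRing K] [Algebra R K]
    {S : Type u} [CommRing S] [Algebra R S] {n c : ℕ} (φ : MvPolynomial (Fin n) R →ₐ[R] S)
    (hφ : Function.Surjective φ) (F : Fin c → MvPolynomial (Fin n) R)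
    (hF : RingHom.ker φ.toRingHom = Ideal.span (Set.range F)) :
    ∃ ψ : MvPolynomial (Fin n) K →ₐ[K] K ⊗[R] S, Function.Surjective ψ ∧
      RingHom.ker ψ.toRingHom =
        Ideal.span (Set.range fun i => MvPolynomial.map (algebraMap R K) (F i)) ∧
      ∀ i, ψ (MvPolynomial.X i) = (1 : K) ⊗ₜ[R] φ (MvPolynomial.X i) := by
  let e := MvPolynomial.algebraTensorAlgEquiv (σ := Fin n) R K
  let m : K ⊗[R] MvPolynomial (Fin n) R →ₐ[K] K ⊗[R] S := Algebra.TensorProduct.map (AlgHom.id K K) φ
  have hm : Function.Surjective m := fun z => by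
    induction z with
    | zero => exact ⟨0, map_zero _⟩
    | add a b ha hb =>
      obtain ⟨a', rfl⟩ := ha
      obtain ⟨b', rfl⟩ := hb
      exact ⟨a' + b', map_add _ _ _⟩
    | tmul k s => obtain ⟨q, rfl⟩ := hφ s; exact ⟨k ⊗ₜ q, rfl⟩
  refine ⟨m.comp e.symm.toAlgHom, hm.comp e.symm.surjective, ?_, fun i => ?_⟩
  · have hk : RingHom.ker m.toRingHom =
        (RingHom.ker φ.toRingHom).map (Algebra.TensorProduct.includeRight :
          MvPolynomial (Fin n) R →ₐ[R] K ⊗[R] MvPolynomial (Fin n) R) :=
      Algebra.TensorProduct.lTensor_ker (A := K) φ hφ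
    change (RingHom.ker m.toRingHom).comap e.symm.toAlgHom.toRingHom = _
    rw [hk, hF, Ideal.map_span, ← Set.range_comp]
    change (Ideal.span _).comap e.toRingEquiv.symm = _
    rw [Ideal.comap_symm, Ideal.map_span, ← Set.range_comp]
    congr 1
    refine congrArg Set.range (funext fun i => ?_)
    show e ((1 : K) ⊗ₜ[R] F i) = _
    simp [e]
  · show m (e.symm (MvPolynomial.X i)) = _
    rw [show e.symm (MvPolynomial.X i) = (1 : K) ⊗ₜ[R] MvPolynomial.X i by
      rw [AlgEquiv.symm_apply_eq]; simp [e]]
    rfl

/-- A flat finite algebra with a presentation by as many relations as generators is syntomic. -/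
theorem isSyntomic_of_finite {R S : Type u} [CommRing R] [CommRing S] [Algebra R S] [Module.Flat R S]
    [Module.Finite R S] {n : ℕ} (φ : MvPolynomial (Fin n) R →ₐ[R] S) (hφ : Function.Surjective φ)
    (F : Fin n → MvPolynomial (Fin n) R) (hF : RingHom.ker φ.toRingHom = Ideal.span (Set.range F)) :
    Synt.IsSyntomic R S := by
  refine ⟨inferInstance, Algebra.FinitePresentation.of_surjective (f := φ) hφ
    (hF ▸ Submodule.fg_span (Set.finite_range _)), fun p => ?_⟩
  refine isLCIOver_of_isGlobalCI ?_
  rcases subsingleton_or_nontrivial (p.asIdeal.Fiber S) with h | h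
  · exact Or.inl h
  obtain ⟨ψ, hψ, hker, -⟩ := exists_presentation_baseChange p.asIdeal.ResidueField φ hφ F hF
  refine Or.inr ⟨n, n, le_rfl, ψ, _, hψ, hker, ?_⟩
  have : IsArtinianRing (p.asIdeal.Fiber S) := IsArtinianRing.of_finite p.asIdeal.ResidueField _
  rw [Nat.sub_self, Nat.cast_zero]
  exact ringKrullDimZero_iff_ringKrullDim_eq_zero.mp (isArtinianRing_iff_krullDimLE_zero.mp inferInstance)

end Groth.Agent.H9Synt

namespace Groth.Agent.H9Synt

/-- A free module which is nontrivial when the ring is, is faithfully flat. -/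
theorem faithfullyFlat_of_free {R M : Type u} [CommRing R] [AddCommGroup M] [Module R M]
    [Module.Free R M] (h : Nontrivial R → Nontrivial M) : Module.FaithfullyFlat R M := by
  rcases subsingleton_or_nontrivial R with hs | hs
  · exact ⟨fun m hm => absurd (Subsingleton.elim m ⊤) hm.ne_top⟩
  · have := h hs
    infer_instance

end Groth.Agent.H9Synt
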