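import Groth.Agent.H9Synt.RootTower

/-!
Invariance of syntomic under isomorphisms; syntomic monogenic covers.
-/

universe u

open TensorProduct CategoryTheory AlgebraicGeometry

namespace Groth.Agent.H9Synt

theorem isLCIOver_of_algEquiv {k S S' : Type u} [Field k] [CommRing S] [CommRing S'] [Algebra k S]
    [Algebra k S'] (e : S ≃ₐ[k] S') (h : Synt.IsLCIOver k S) : Synt.IsLCIOver k S' := by
  obtain ⟨hft, hp⟩ := h
  refine ⟨hft.equiv e, fun p => ?_⟩
  obtain ⟨g, hg, hci⟩ := hp ⟨p.asIdeal.comap e.toAlgHom.toRingHom, Ideal.IsPrime.comap _⟩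
  refine ⟨e g, hg, isGlobalCI_of_algEquiv ?_ hci⟩
  exact IsLocalization.algEquivOfAlgEquiv (M := Submonoid.powers g) (T := Submonoid.powers (e g))
    (Localization.Away g) (Localization.Away (e g)) e (by simp [Submonoid.map_powers])

theorem isSyntomic_of_algEquiv {R S S' : Type u} [CommRing R] [CommRing S] [CommRing S'] [Algebra R S]
    [Algebra R S'] (e : S ≃ₐ[R] S') (h : Synt.IsSyntomic R S) : Synt.IsSyntomic R S' := by
  obtain ⟨hflat, hfp, hfib⟩ := h
  exact ⟨Module.Flat.of_linearEquiv e.symm.toLinearEquiv, hfp.equiv e, fun p =>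
    isLCIOver_of_algEquiv (Algebra.TensorProduct.congr AlgEquiv.refl e) (hfib p)⟩

/-- The morphism given by a syntomic algebra over an affine open is syntomic. -/
theorem isSyntomicMor_fromSpec {X : Scheme.{u}} {U : X.Opens} (hU : IsAffineOpen U)
    (B : Type u) [CommRing B] [Algebra Γ(X, U) B] (hB : Synt.IsSyntomic Γ(X, U) B) :
    Synt.IsSyntomicMor (Spec.map (CommRingCat.ofHom (algebraMap Γ(X, U) B)) ≫ hU.fromSpec) := by
  intro x
  set ι := CommRingCat.ofHom (algebraMap Γ(X, U) B)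
  have htop : (⊤ : (Spec (CommRingCat.of B)).Opens) ≤ (Spec.map ι ≫ hU.fromSpec) ⁻¹ᵁ U := by
    rw [Scheme.Hom.comp_preimage, hU.fromSpec_preimage_self]; exact le_of_eq rfl
  refine ⟨⟨⊤, isAffineOpen_top _⟩, ⟨U, hU⟩, htop, trivial, ?_⟩
  have key : (Spec.map ι ≫ hU.fromSpec).appLE U ⊤ htop = ι ≫ (Scheme.ΓSpecIso (CommRingCat.of B)).inv := by
    apply Spec.map_injective
    rw [← cancel_mono hU.fromSpec, IsAffineOpen.SpecMap_appLE_fromSpec _ hU (isAffineOpen_top _) htop,
      Spec.map_comp, Category.assoc, IsAffineOpen.fromSpec_top, Scheme.isoSpec_Spec_inv]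
  letI := ((Spec.map ι ≫ hU.fromSpec).appLE U ⊤ htop).hom.toAlgebra
  refine isSyntomic_of_algEquiv
    (AlgEquiv.ofRingEquiv (f := (Scheme.ΓSpecIso (CommRingCat.of B)).symm.commRingCatIsoToRingEquiv)
      fun r => ?_) hB
  show _ = ((Spec.map ι ≫ hU.fromSpec).appLE U ⊤ htop).hom r
  rw [key]
  rfl

/-- A syntomic cover on which a given section is a `p`-th power. -/
theorem exists_root_cover (p : ℕ) [Fact p.Prime] (X : Scheme.{u}) (a : Γ(X, ⊤)) :
    ∃ 𝒰 : Scheme.Cover.{u} (Scheme.precoverage @Synt.IsSyntomicMor) X,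
      ∀ i : 𝒰.I₀, ∃ b : Γ(𝒰.X i, ⊤), b ^ p = (𝒰.f i).appTop a := by
  classical
  choose U hU hx hle using fun x : X => exists_isAffineOpen_mem_and_subset (x := x) (U := ⊤) trivial
  let P : ∀ x, Polynomial Γ(X, U x) := fun x =>
    Polynomial.X ^ p - Polynomial.C (X.presheaf.map (homOfLE le_top).op a)
  let Y : X → Scheme.{u} := fun x => Spec (CommRingCat.of (AdjoinRoot (P x)))
  let f : ∀ x, Y x ⟶ X := fun x =>
    Spec.map (CommRingCat.ofHom (algebraMap Γ(X, U x) (AdjoinRoot (P x)))) ≫ (hU x).fromSpec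
  have hp : ∀ x, (P x).Monic := fun x =>
    Polynomial.monic_X_pow_sub_C _ (Fact.out : p.Prime).ne_zero
  refine ⟨Scheme.Cover.mkOfCovers X Y f (fun x => ?_)
    (fun x => isSyntomicMor_fromSpec (hU x) _ (isSyntomic_adjoinRoot (hp x))), fun x => ?_⟩
  · have := (hp x).free_adjoinRoot
    have hne : Nonempty (Fin (P x).natDegree) := ⟨⟨0, by
      have : Nontrivial Γ(X, U x) := by
        have : Nonempty (U x : X.Opens) := ⟨⟨x, hx x⟩⟩
        exact AlgebraicGeometry.Scheme.component_nontrivial X (U x)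
      rw [Polynomial.natDegree_X_pow_sub_C]; exact (Fact.out : p.Prime).pos⟩⟩
    have hff : Module.FaithfullyFlat Γ(X, U x) (AdjoinRoot (P x)) :=
      faithfullyFlat_of_free fun _ => (AdjoinRoot.powerBasisAux' (hp x)).repr.toEquiv.nontrivial
    obtain ⟨z, hz⟩ : x ∈ Set.range (hU x).fromSpec.base := by
      rw [(hU x).range_fromSpec]; exact hx x
    obtain ⟨y, hy⟩ := PrimeSpectrum.comap_surjective_of_faithfullyFlat (B := AdjoinRoot (P x)) z
    exact ⟨x, y, (congrArg (hU x).fromSpec.base hy).trans hz⟩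
  · refine ⟨(Scheme.ΓSpecIso (CommRingCat.of (AdjoinRoot (P x)))).inv (AdjoinRoot.root (P x)), ?_⟩
    refine (map_pow (Scheme.ΓSpecIso (CommRingCat.of (AdjoinRoot (P x)))).inv.hom _ _).symm.trans ?_
    have hroot : AdjoinRoot.root (P x) ^ p = algebraMap Γ(X, U x) (AdjoinRoot (P x))
        (X.presheaf.map (homOfLE le_top).op a) := by
      have := AdjoinRoot.eval₂_root (P x)
      simpa [P, sub_eq_zero] using this
    rw [hroot]
    show _ = (f x).appTop a
    have htop : (⊤ : (Y x).Opens) ≤ f x ⁻¹ᵁ U x := by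
      simp only [f, Scheme.Hom.comp_preimage, (hU x).fromSpec_preimage_self]; exact le_of_eq rfl
    have h1 : (f x).appTop = X.presheaf.map (homOfLE le_top).op ≫ (f x).appLE (U x) ⊤ htop := by
      rw [Scheme.Hom.map_appLE]
      exact (Scheme.Hom.appLE_eq_app (f x) (U := ⊤)).symm
    have key : (f x).appLE (U x) ⊤ htop = CommRingCat.ofHom (algebraMap Γ(X, U x) (AdjoinRoot (P x))) ≫
        (Scheme.ΓSpecIso (CommRingCat.of (AdjoinRoot (P x)))).inv := by
      apply Spec.map_injective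
      rw [← cancel_mono (hU x).fromSpec, IsAffineOpen.SpecMap_appLE_fromSpec _ (hU x) (isAffineOpen_top _) htop,
        Spec.map_comp, Category.assoc, IsAffineOpen.fromSpec_top, Scheme.isoSpec_Spec_inv]
    rw [h1, key]
    rfl

end Groth.Agent.H9Synt
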