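import Groth.Agent.H9Synt.Transport
import Groth.Agent.H8Props.FieldDimHeight

/-!
Smooth algebras are syntomic.
-/

universe u

open TensorProduct

namespace Groth.Agent.H9Synt

/-- An etale algebra over a polynomial ring over a field has the same dimension, unless it is zero. -/
theorem ringKrullDim_of_etale_mvPolynomial {k S : Type u} [Field k] [CommRing S] {d : ℕ}
    [Algebra (MvPolynomial (Fin d) k) S] [Algebra.Etale (MvPolynomial (Fin d) k) S] [Nontrivial S] :
    ringKrullDim S = d := by
  letI := ((algebraMap (MvPolynomial (Fin d) k) S).comp MvPolynomial.C).toAlgebra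
  have : IsScalarTower k (MvPolynomial (Fin d) k) S := IsScalarTower.of_algebraMap_eq fun _ => rfl
  have : Algebra.FiniteType k S := Algebra.FiniteType.trans (S := MvPolynomial (Fin d) k) inferInstance inferInstance
  have : IsNoetherianRing S := Algebra.FiniteType.isNoetherianRing k S
  have key : ∀ (p : Ideal (MvPolynomial (Fin d) k)) [p.IsPrime] (q : Ideal S) [q.IsPrime] [q.LiesOver p],
      q.height = p.height := by
    intro p _ q _ _
    rw [Ideal.height_eq_height_add_of_liesOver_of_hasGoingDown p q]
    have hle : p.map (algebraMap (MvPolynomial (Fin d) k) S) ≤ q :=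
      Ideal.map_le_iff_le_comap.mpr (q.over_def p).le
    have := Ideal.isPrime_map_quotientMk_of_isPrime hle
    have hz : (q.map (Ideal.Quotient.mk (p.map (algebraMap (MvPolynomial (Fin d) k) S)))).height = 0 := by
      rw [Ideal.height_eq_zero_iff]
      refine ⟨⟨inferInstance, bot_le⟩, fun J hJ hJq => ?_⟩
      have := hJ.1
      have hJ' : J.comap (Ideal.Quotient.mk _) ≤ q := by
        refine (Ideal.comap_mono hJq).trans ?_
        rw [Ideal.comap_map_of_surjective' _ Ideal.Quotient.mk_surjective, Ideal.mk_ker]
        exact sup_le le_rfl hle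
      have heq := Algebra.QuasiFinite.eq_of_le_of_under_eq (R := MvPolynomial (Fin d) k)
        (J.comap (Ideal.Quotient.mk _)) q hJ' (le_antisymm (Ideal.comap_mono hJ') (by
          rw [← q.over_def p]
          refine le_trans ?_ (Ideal.comap_mono (Ideal.comap_mono bot_le))
          rw [← RingHom.ker_eq_comap_bot, Ideal.mk_ker]
          exact Ideal.le_comap_map))
      rw [← heq, Ideal.map_comap_of_surjective _ Ideal.Quotient.mk_surjective]
    rw [hz, add_zero]
  have hmax : ∀ (q : Ideal S) [q.IsMaximal], (q.height : WithBot ℕ∞) = d := by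
    intro q _
    let p := q.comap (algebraMap (MvPolynomial (Fin d) k) S)
    have : q.LiesOver p := ⟨rfl⟩
    rw [key p q]
    letI := Ideal.Quotient.field q
    have : Module.Finite k (S ⧸ q) := finite_of_finite_type_of_isJacobsonRing k _
    have : Algebra.IsIntegral k (MvPolynomial (Fin d) k ⧸ p) :=
      Algebra.IsIntegral.of_injective
        (IsScalarTower.toAlgHom k (MvPolynomial (Fin d) k ⧸ p) (S ⧸ q))
        (FaithfulSMul.algebraMap_injective (MvPolynomial (Fin d) k ⧸ p) (S ⧸ q))
    have hpmax : p.IsMaximal := Ideal.Quotient.maximal_of_isField _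
      ((isField_of_isIntegral_of_isField' (Field.toIsField k)))
    have h := H8Props.FieldDim.height_add_dim_quotient k (MvPolynomial (Fin d) k) p
    letI := Ideal.Quotient.field p
    rw [ringKrullDim_eq_zero_of_field, add_zero, MvPolynomial.ringKrullDim_of_isNoetherianRing,
      ringKrullDim_eq_zero_of_field] at h
    simpa using h
  obtain ⟨q, hq⟩ := Ideal.exists_maximal S
  refine le_antisymm ?_ ?_
  · rw [← Ideal.sup_height_eq_ringKrullDim]
    refine (WithBot.coe_le_coe.mpr (iSup_le fun p => iSup_le fun hp => ?_)).trans_eq (hmax q)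
    obtain ⟨m, hm, hpm⟩ := Ideal.exists_le_maximal p hp
    exact (Ideal.height_mono hpm).trans_eq (WithBot.coe_injective ((hmax m).trans (hmax q).symm))
  · rw [← hmax q]
    exact Ideal.height_le_ringKrullDim_of_ne_top hq.ne_top

/-- Standard smooth algebras over a field are global complete intersections. -/
theorem isGlobalCI_of_isStandardSmooth (k S : Type u) [Field k] [CommRing S] [Algebra k S]
    [Algebra.IsStandardSmooth k S] : Synt.IsGlobalCI k S := by
  rcases subsingleton_or_nontrivial S with h | h
  · exact Or.inl h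
  obtain ⟨ι, σ, _, _, ⟨P⟩⟩ := Algebra.IsStandardSmooth.out (R := k) (S := S)
  let := Fintype.ofFinite ι
  let := Fintype.ofFinite σ
  have hsm : Algebra.IsStandardSmoothOfRelativeDimension P.dimension k S :=
    P.isStandardSmoothOfRelativeDimension rfl
  obtain ⟨g, hg⟩ := Algebra.IsStandardSmoothOfRelativeDimension.exists_etale_mvPolynomial P.dimension k S
  letI := g.toRingHom.toAlgebra
  have : Algebra.Etale (MvPolynomial (Fin P.dimension) k) S := hg
  have hdim := ringKrullDim_of_etale_mvPolynomial (k := k) (S := S) (d := P.dimension)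
  refine Or.inr ⟨Fintype.card ι, Fintype.card σ, Fintype.card_le_of_injective _ P.map_inj,
    (MvPolynomial.aeval P.val).comp (MvPolynomial.renameEquiv k (Fintype.equivFin ι).symm).toAlgHom,
    fun i => (MvPolynomial.renameEquiv k (Fintype.equivFin ι)) (P.relation ((Fintype.equivFin σ).symm i)),
    ?_, ?_, ?_⟩
  · exact Function.Surjective.comp (g := MvPolynomial.aeval P.val) (fun s => ⟨P.σ s, P.aeval_val_σ s⟩)
      (MvPolynomial.renameEquiv k (Fintype.equivFin ι).symm).surjective
  · change (RingHom.ker (MvPolynomial.aeval P.val).toRingHom).comap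
      (MvPolynomial.renameEquiv k (Fintype.equivFin ι)).toRingEquiv.symm = _
    rw [Ideal.comap_symm]
    have hk : RingHom.ker (MvPolynomial.aeval P.val).toRingHom = Ideal.span (Set.range P.relation) := by
      rw [P.span_range_relation_eq_ker, P.ker_eq_ker_aeval_val]
      rfl
    rw [hk, Ideal.map_span, ← Set.range_comp]
    congr 1
    exact (Equiv.surjective (Fintype.equivFin σ).symm).range_comp
      (fun s => (MvPolynomial.renameEquiv k (Fintype.equivFin ι)) (P.relation s)) |>.symm
  · rw [hdim, Algebra.Presentation.dimension, Nat.card_eq_fintype_card, Nat.card_eq_fintype_card]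

theorem isLCIOver_of_smooth (k S : Type u) [Field k] [CommRing S] [Algebra k S] [Algebra.Smooth k S] :
    Synt.IsLCIOver k S := by
  refine ⟨inferInstance, fun p => ?_⟩
  obtain ⟨s, hs, hss⟩ :=
    (RingHom.smooth_algebraMap.mpr ‹Algebra.Smooth k S›).locally_isStandardSmooth
  obtain ⟨g, hg, hgp⟩ : ∃ g ∈ s, g ∉ p.asIdeal := by
    by_contra! hall
    exact p.isPrime.ne_top (top_le_iff.mp (hs ▸ Ideal.span_le.mpr hall))
  have h1 := hss g hg
  rw [← IsScalarTower.algebraMap_eq, RingHom.isStandardSmooth_algebraMap] at h1
  exact ⟨g, hgp, isGlobalCI_of_isStandardSmooth k _⟩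

theorem isSyntomic_of_smooth (R S : Type u) [CommRing R] [CommRing S] [Algebra R S] [Algebra.Smooth R S] :
    Synt.IsSyntomic R S :=
  ⟨inferInstance, inferInstance, fun p => isLCIOver_of_smooth p.asIdeal.ResidueField (p.asIdeal.Fiber S)⟩

end Groth.Agent.H9Synt
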