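import Groth.Agent.H9Synt.Basic

/-!
Presentations of towers of monogenic finite free algebras.
-/

universe u

open Polynomial

namespace Groth.Agent.H9Synt

/-- `S` has a presentation by `n` generators and `n` relations over `R`. -/
def HasSquarePresentation (R S : Type u) [CommRing R] [CommRing S] [Algebra R S] : Prop :=
  ∃ (n : ℕ) (φ : MvPolynomial (Fin n) R →ₐ[R] S) (F : Fin n → MvPolynomial (Fin n) R),
    Function.Surjective φ ∧ RingHom.ker φ.toRingHom = Ideal.span (Set.range F)

theorem hasSquarePresentation_self (R : Type u) [CommRing R] : HasSquarePresentation R R := by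
  refine ⟨0, (MvPolynomial.isEmptyAlgEquiv R (Fin 0)).toAlgHom, Fin.elim0,
    (MvPolynomial.isEmptyAlgEquiv R (Fin 0)).surjective, ?_⟩
  rw [Set.range_eq_empty, Ideal.span_empty]
  exact (RingHom.injective_iff_ker_eq_bot _).mp (MvPolynomial.isEmptyAlgEquiv R (Fin 0)).injective

theorem hasSquarePresentation_adjoinRoot_step {R S : Type u} [CommRing R] [CommRing S] [Algebra R S]
    (h : HasSquarePresentation R S) (G : S[X]) : HasSquarePresentation R (AdjoinRoot G) := by
  obtain ⟨n, φ, F, hφ, hF⟩ := h
  let mkR : S[X] →ₐ[R] AdjoinRoot G := (AdjoinRoot.mkₐ G).restrictScalars R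
  let mapφ : (MvPolynomial (Fin n) R)[X] →ₐ[R] S[X] := Polynomial.mapAlgHom φ
  let φ' : MvPolynomial (Fin (n + 1)) R →ₐ[R] AdjoinRoot G :=
    (mkR.comp mapφ).comp (MvPolynomial.finSuccEquiv R n).toAlgHom
  have hmap : Function.Surjective mapφ := Polynomial.map_surjective φ.toRingHom hφ
  obtain ⟨G', hG'⟩ := hmap G
  let E := MvPolynomial.finSuccEquiv R n
  refine ⟨n + 1, φ', Fin.cons (E.symm G') (fun i => E.symm (C (F i))),
    ((AdjoinRoot.mk_surjective.comp hmap).comp E.surjective), ?_⟩
  have hker : RingHom.ker ((mkR.comp mapφ).toRingHom) =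
      Ideal.span {G'} ⊔ (Ideal.span (Set.range F)).map (C : MvPolynomial (Fin n) R →+* _) := by
    change (RingHom.ker mkR.toRingHom).comap mapφ.toRingHom = _
    have h1 : RingHom.ker mkR.toRingHom = (Ideal.span {G'}).map mapφ.toRingHom := by
      rw [Ideal.map_span, Set.image_singleton, show mapφ.toRingHom G' = G from hG']
      exact Ideal.mk_ker
    rw [h1, Ideal.comap_map_of_surjective' mapφ.toRingHom hmap, show RingHom.ker mapφ.toRingHom =
      RingHom.ker (Polynomial.mapRingHom φ.toRingHom) from rfl, Polynomial.ker_mapRingHom, hF]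
  change (RingHom.ker (mkR.comp mapφ).toRingHom).comap E.toRingEquiv = _
  rw [hker, ← Ideal.map_symm, Ideal.map_span C, ← Ideal.span_union, Ideal.map_span]
  congr 1
  rw [Set.image_union, Set.image_singleton, ← Set.range_comp, ← Set.range_comp, Fin.range_cons,
    Set.insert_eq]
  rfl

/-- A monogenic finite free algebra is syntomic. -/
theorem isSyntomic_adjoinRoot {A : Type u} [CommRing A] {P : A[X]} (hP : P.Monic) :
    Synt.IsSyntomic A (AdjoinRoot P) := by
  obtain ⟨n, φ, F, hφ, hF⟩ := hasSquarePresentation_adjoinRoot_step (hasSquarePresentation_self A) P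
  have := hP.free_adjoinRoot
  have := hP.finite_adjoinRoot
  exact isSyntomic_of_finite φ hφ F hF

/-- A monic polynomial splits over a finite free syntomic algebra. -/
theorem exists_splitting_algebra (A : Type u) [CommRing A] (d : ℕ) :
    ∀ (B : Type u) [CommRing B] [Algebra A B] [Module.Finite A B] [Module.Free A B],
      HasSquarePresentation A B → ∀ Q : B[X], Q.Monic → Q.natDegree = d →
        ∀ (_ : Function.Injective (algebraMap A B)),
        ∃ (A' : Type u) (_ : CommRing A') (_ : Algebra A A') (_ : Algebra B A')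
          (_ : IsScalarTower A B A'), Module.Finite A A' ∧ Module.Free A A' ∧
          Function.Injective (algebraMap A A') ∧
          HasSquarePresentation A A' ∧ ∃ s : Multiset A',
            Q.map (algebraMap B A') = (s.map fun b => X - C b).prod := by
  induction d with
  | zero =>
    intro B _ _ _ _ hB Q hQ hd hinj
    refine ⟨B, inferInstance, inferInstance, Algebra.id B, IsScalarTower.right, inferInstance,
      inferInstance, hinj, hB, 0, ?_⟩
    rw [hQ.natDegree_eq_zero.mp hd]
    simp
  | succ d ih =>
    intro B _ _ _ _ hB Q hQ hd hinj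
    rcases subsingleton_or_nontrivial B with hs | hs
    · refine ⟨B, inferInstance, inferInstance, Algebra.id B, IsScalarTower.right, inferInstance,
        inferInstance, hinj, hB, 0, Subsingleton.elim _ _⟩
    have hfree := hQ.free_adjoinRoot
    have hfinB := hQ.finite_adjoinRoot
    let B₁ := AdjoinRoot Q
    have : Module.Finite A B₁ := Module.Finite.trans B B₁
    have : Module.Free A B₁ := Module.Free.trans (S := B)
    have hof : Function.Injective (AdjoinRoot.of Q) := (injective_iff_map_eq_zero _).mpr fun b hb => by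
      by_contra hb0
      refine hQ.not_dvd_of_degree_lt (C_ne_zero.mpr hb0) ?_ (AdjoinRoot.mk_eq_zero.mp hb)
      rw [degree_C hb0, degree_eq_natDegree hQ.ne_zero, hd]
      exact_mod_cast Nat.succ_pos d
    have hinj₁ : Function.Injective (algebraMap A B₁) := by
      rw [IsScalarTower.algebraMap_eq A B B₁]
      exact hof.comp hinj
    have hroot : (Q.map (AdjoinRoot.of Q)).IsRoot (AdjoinRoot.root Q) := AdjoinRoot.isRoot_root Q
    obtain ⟨Q₁, hQ₁⟩ := dvd_iff_isRoot.mpr hroot
    have hQ₁m : Q₁.Monic := (monic_X_sub_C _).of_mul_monic_left (hQ₁ ▸ hQ.map _)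
    have : Nontrivial B₁ := hof.nontrivial
    have hd₁ : Q₁.natDegree = d := by
      have := congrArg natDegree hQ₁
      rw [hQ.natDegree_map, hd, (monic_X_sub_C _).natDegree_mul hQ₁m, natDegree_X_sub_C] at this
      omega
    obtain ⟨A', _, _, _, _, hfin, hfr, hinj', hpres, s, hs'⟩ :=
      ih B₁ (hasSquarePresentation_adjoinRoot_step hB Q) Q₁ hQ₁m hd₁ hinj₁
    let alg : Algebra B A' := ((algebraMap B₁ A').comp (algebraMap B B₁)).toAlgebra
    letI := alg
    have : IsScalarTower B B₁ A' := IsScalarTower.of_algebraMap_eq fun x => rfl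
    have : IsScalarTower A B A' := IsScalarTower.of_algebraMap_eq fun a => by
      rw [IsScalarTower.algebraMap_apply A B₁ A', IsScalarTower.algebraMap_apply A B B₁]; rfl
    refine ⟨A', inferInstance, inferInstance, alg, this, hfin, hfr, hinj', hpres,
      algebraMap B₁ A' (AdjoinRoot.root Q) ::ₘ s, ?_⟩
    rw [show algebraMap B A' = (algebraMap B₁ A').comp (AdjoinRoot.of Q) from rfl, ← Polynomial.map_map,
      hQ₁, Polynomial.map_mul, hs', Polynomial.map_sub, map_X, map_C, Multiset.map_cons,
      Multiset.prod_cons]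

end Groth.Agent.H9Synt
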