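import Groth.Prelude.Def_DCoh2
import Mathlib.Algebra.Homology.Double
import Mathlib.Algebra.Homology.HomologicalComplexAbelian
import Mathlib.Algebra.Homology.DerivedCategory.ShortExact
import Mathlib.CategoryTheory.Triangulated.Pretriangulated

/-!
# Two-term complexes differing by a contractible piece
-/

set_option autoImplicit false

open CategoryTheory CategoryTheory.Limits HomologicalComplex Pretriangulated ZeroObject

universe w v u

namespace Groth.Agent.H9Synt.DoubleQis

variable {C : Type u} [Category.{v} C] [Abelian C]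

abbrev rel : (ComplexShape.up ℤ).Rel (-1 : ℤ) 0 := neg_add_cancel (1 : ℤ)

variable {A₀ A₁ B₀ B₁ : C} {f : A₀ ⟶ A₁} {g : B₀ ⟶ B₁}

/-- A map of two-term complexes. -/
noncomputable def map (a : A₀ ⟶ B₀) (b : A₁ ⟶ B₁) (h : a ≫ g = f ≫ b) : double f rel ⟶ double g rel :=
  mkHomFromDouble rel (by decide) (a ≫ (doubleXIso₀ g rel).inv) (b ≫ (doubleXIso₁ g rel (by decide)).inv)
    (by rw [double_d _ _ (by decide)]; simp [reassoc_of% h])
    (fun k hk => by rw [double_d_eq_zero₀ _ _ _ _ (by decide), comp_zero])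

theorem map_f₀ (a : A₀ ⟶ B₀) (b : A₁ ⟶ B₁) (h : a ≫ g = f ≫ b) :
    (map a b h).f (-1) = (doubleXIso₀ f rel).hom ≫ a ≫ (doubleXIso₀ g rel).inv :=
  mkHomFromDouble_f₀ ..

theorem map_f₁ (a : A₀ ⟶ B₀) (b : A₁ ⟶ B₁) (h : a ≫ g = f ≫ b) :
    (map a b h).f 0 = (doubleXIso₁ f rel (by decide)).hom ≫ b ≫ (doubleXIso₁ g rel (by decide)).inv :=
  mkHomFromDouble_f₁ ..

variable [HasDerivedCategory.{w} C]

theorem isZero_Q_double_id (M : C) : IsZero (DerivedCategory.Q.obj (double (𝟙 M) rel)) := by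
  let D : CochainComplex C ℤ := double (𝟙 M) rel
  have hex : ∀ i, D.ExactAt i := by
    intro i
    by_cases hi : i = -1
    · subst hi
      rw [exactAt_iff' D (-2) (-1) 0 (by simp) (by simp)]
      haveI : Mono (D.sc' (-2) (-1) 0).g := by
        show Mono ((double (𝟙 M) rel).d (-1) 0)
        rw [double_d _ _ (by decide)]; infer_instance
      exact ((D.sc' (-2) (-1) 0).exact_iff_mono ((isZero_double_X (𝟙 M) rel _ (by decide) (by decide)).eq_of_src _ _)).2 ‹_›
    · by_cases hi' : i = 0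
      · subst hi'
        rw [exactAt_iff' D (-1) 0 1 (by simp) (by simp)]
        haveI : Epi (D.sc' (-1) 0 1).f := by
          show Epi ((double (𝟙 M) rel).d (-1) 0)
          rw [double_d _ _ (by decide)]; infer_instance
        exact ((D.sc' (-1) 0 1).exact_iff_epi ((isZero_double_X (𝟙 M) rel _ (by decide) (by decide)).eq_of_tgt _ _)).2 ‹_›
      · exact ShortComplex.exact_of_isZero_X₂ _ (isZero_double_X (𝟙 M) rel _ hi hi')
  have : QuasiIso (0 : (0 : CochainComplex C ℤ) ⟶ D) := ⟨fun i =>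
    (quasiIsoAt_iff_exactAt _ i (ShortComplex.exact_of_isZero_X₂ _
      ((HomologicalComplex.eval C (ComplexShape.up ℤ) i).map_isZero (isZero_zero _)))).2 (hex i)⟩
  exact (DerivedCategory.Q.map_isZero (isZero_zero _)).of_iso
    (asIso (DerivedCategory.Q.map (0 : (0 : CochainComplex C ℤ) ⟶ D))).symm

/-- Adding a contractible piece does not change the class in the derived category. -/
theorem nonempty_iso {A₀ A₁ N B M : C} {φ : A₀ ⟶ A₁} {ψ : N ⟶ B} {α : A₀ ⟶ N} {ι : A₁ ⟶ B}
    {π : N ⟶ M} {pr : B ⟶ M} (hc : α ≫ ψ = φ ≫ ι) (hp : ψ ≫ pr = π)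
    {w₀ : α ≫ π = 0} (h₀ : (ShortComplex.mk α π w₀).ShortExact)
    {w₁ : ι ≫ pr = 0} (h₁ : (ShortComplex.mk ι pr w₁).ShortExact) :
    Nonempty (DerivedCategory.Q.obj (double φ rel) ≅ DerivedCategory.Q.obj (double ψ rel)) := by
  let F := map (f := φ) (g := ψ) α ι hc
  let G := map (f := ψ) (g := 𝟙 M) π pr (by rw [Category.comp_id, hp])
  let S : ShortComplex (CochainComplex C ℤ) := ShortComplex.mk F G (by
    apply from_double_hom_ext
    · simp [F, G, map_f₀, reassoc_of% w₀]
    · simp [F, G, map_f₁, reassoc_of% w₁])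
  have hS : S.ShortExact := by
    rw [shortExact_iff_degreewise_shortExact]
    intro i
    by_cases hi : i = -1
    · subst hi
      let e : ShortComplex.mk α π w₀ ≅ S.map (eval C (ComplexShape.up ℤ) (-1)) :=
        ShortComplex.isoMk (doubleXIso₀ φ rel).symm (doubleXIso₀ ψ rel).symm (doubleXIso₀ (𝟙 M) rel).symm
          (by simp [S, F, map_f₀]; exact Iso.inv_hom_id_assoc _ _) (by simp [S, G, map_f₀]; exact Iso.inv_hom_id_assoc _ _)
      exact ShortComplex.shortExact_of_iso e h₀
    · by_cases hi' : i = 0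
      · subst hi'
        let e : ShortComplex.mk ι pr w₁ ≅ S.map (eval C (ComplexShape.up ℤ) 0) :=
          ShortComplex.isoMk (doubleXIso₁ φ rel (by decide)).symm (doubleXIso₁ ψ rel (by decide)).symm
            (doubleXIso₁ (𝟙 M) rel (by decide)).symm (by simp [S, F, map_f₁]; exact Iso.inv_hom_id_assoc _ _) (by simp [S, G, map_f₁]; exact Iso.inv_hom_id_assoc _ _)
        exact ShortComplex.shortExact_of_iso e h₁
      · exact
          { exact := ShortComplex.exact_of_isZero_X₂ _ (isZero_double_X ψ rel _ hi hi')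
            mono_f := ⟨fun _ _ _ => (isZero_double_X φ rel i hi hi').eq_of_tgt _ _⟩
            epi_g := ⟨fun _ _ _ => (isZero_double_X (𝟙 M) rel i hi hi').eq_of_src _ _⟩ }
  have : IsIso (DerivedCategory.triangleOfSES hS).mor₁ :=
    (Triangle.isZero₃_iff_isIso₁ _ (DerivedCategory.triangleOfSES_distinguished hS)).1 (isZero_Q_double_id M)
  exact ⟨@asIso _ _ _ _ (DerivedCategory.triangleOfSES hS).mor₁ this⟩

end Groth.Agent.H9Synt.DoubleQis
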