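import Groth.Agent.H9Synt.Basic

/-!
The endomorphism `T i ↦ T i ^ p` of a polynomial ring is finite free and syntomic.
-/

universe u

open MvPolynomial

namespace Groth.Agent.H9Synt

variable {A : Type u} [CommRing A] {m : ℕ} (p : ℕ) [NeZero p] {S : Type u} [CommRing S]
  [Algebra (MvPolynomial (Fin m) A) S] (E : MvPolynomial (Fin m) A ≃+* S)
  (hE : ∀ q, algebraMap (MvPolynomial (Fin m) A) S q = E (expand p q))

include hE in
theorem free_expand :
    Module.Free (MvPolynomial (Fin m) A) S ∧ Module.Finite (MvPolynomial (Fin m) A) S := by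
  classical
  let low : (Fin m → Fin p) → (Fin m →₀ ℕ) := fun j => Finsupp.equivFunOnFinite.symm fun i => (j i : ℕ)
  let v₀ : (Fin m → Fin p) → MvPolynomial (Fin m) A := fun j => monomial (low j) 1
  let v : (Fin m → Fin p) → S := fun j => E (v₀ j)
  have hsm : ∀ (q : MvPolynomial (Fin m) A) j, q • v j = E (expand p q * v₀ j) := fun q j => by
    rw [Algebra.smul_def, hE, map_mul]
  have hp : 0 < p := NeZero.pos p
  have hdec : ∀ d : Fin m →₀ ℕ, ∃ e j, d = p • e + low j := fun d => by
    refine ⟨Finsupp.equivFunOnFinite.symm fun i => d i / p, fun i => ⟨d i % p, Nat.mod_lt _ hp⟩,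
      Finsupp.ext fun i => ?_⟩
    simp [low, Nat.div_add_mod]
  have huniq : ∀ e j e' j', p • e + low j = p • e' + low j' → e = e' ∧ j = j' := fun e j e' j' h => by
    have h1 : ∀ i, p * e i + (j i : ℕ) = p * e' i + (j' i : ℕ) := fun i => by
      have := DFunLike.congr_fun h i
      simpa [low] using this
    refine ⟨Finsupp.ext fun i => ?_, funext fun i => Fin.ext ?_⟩
    · have := congrArg (· / p) (h1 i)
      simpa [Nat.mul_add_div hp, Nat.div_eq_of_lt (j i).2, Nat.div_eq_of_lt (j' i).2] using this
    · have := congrArg (· % p) (h1 i)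
      simpa [Nat.mul_add_mod, Nat.mod_eq_of_lt (j i).2, Nat.mod_eq_of_lt (j' i).2] using this
  have hli : LinearIndependent (MvPolynomial (Fin m) A) v := by
    rw [Fintype.linearIndependent_iff]
    intro g hg j
    ext e
    simp only [hsm, ← map_sum, EmbeddingLike.map_eq_zero_iff] at hg
    have h1 := congrArg (coeff (p • e + low j)) hg
    simp only [coeff_sum, coeff_zero, v₀] at h1
    rw [Finset.sum_eq_single j (fun j' _ hj' => ?_) (by simp), coeff_mul_monomial, mul_one,
      coeff_expand_smul _ hp.ne'] at h1
    · simpa using h1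
    · rw [coeff_mul_monomial']
      split_ifs with hle
      · rw [mul_one]
        by_contra hne
        have hdiv : ∀ i, p ∣ (p • e + low j - low j') i := fun i => by
          by_contra hi
          exact hne (coeff_expand_of_not_dvd _ hi)
        refine hj' (funext fun i => Fin.ext ?_)
        obtain ⟨c, hc⟩ := hdiv i
        have h2 : (low j') i ≤ (p • e + low j) i := hle i
        simp [low] at hc h2
        have := congrArg (· % p) (show p * e i + (j i : ℕ) = p * c + (j' i : ℕ) by omega)
        simpa [Nat.mul_add_mod, Nat.mod_eq_of_lt (j i).2, Nat.mod_eq_of_lt (j' i).2] using this.symm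
      · rfl
  have hsp : ⊤ ≤ Submodule.span (MvPolynomial (Fin m) A) (Set.range v) := fun f _ => by
    obtain ⟨f, rfl⟩ := E.surjective f
    induction f using MvPolynomial.induction_on' with
    | monomial d a =>
      obtain ⟨e, j, rfl⟩ := hdec d
      have : E (monomial (p • e + low j) a) = monomial e a • v j := by
        rw [hsm, expand_monomial, monomial_mul, mul_one]
      rw [this]
      exact Submodule.smul_mem _ _ (Submodule.subset_span ⟨j, rfl⟩)
    | add a b ha hb => rw [map_add]; exact Submodule.add_mem _ (ha trivial) (hb trivial)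
  let b := Module.Basis.mk hli hsp
  exact ⟨Module.Free.of_basis b, Module.Finite.of_basis b⟩

include hE in
theorem isSyntomic_expand : Synt.IsSyntomic (MvPolynomial (Fin m) A) S := by
  obtain ⟨_, _⟩ := free_expand p E hE
  let F : Fin m → MvPolynomial (Fin m) (MvPolynomial (Fin m) A) := fun i => X i ^ p - C (X i)
  let ψ : MvPolynomial (Fin m) (MvPolynomial (Fin m) A) →ₐ[MvPolynomial (Fin m) A] S :=
    aeval fun i => E (X i)
  let ι : MvPolynomial (Fin m) A →+* MvPolynomial (Fin m) (MvPolynomial (Fin m) A) :=
    eval₂Hom (C.comp C) X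
  have hψι : ∀ q, ψ (ι q) = E q := fun q => by
    induction q using MvPolynomial.induction_on with
    | C a => simp [ψ, ι, hE]
    | add a b ha hb => rw [map_add, map_add, map_add, ha, hb]
    | mul_X a i ha => rw [map_mul, map_mul, map_mul, ha]; simp [ψ, ι]
  refine isSyntomic_of_finite ψ (fun q => ⟨ι (E.symm q), by rw [hψι, E.apply_symm_apply]⟩) F
    (le_antisymm ?_ ?_)
  · intro q hq
    let mk := Ideal.Quotient.mk (Ideal.span (Set.range F))
    have h : mk = ((mk.comp ι).comp E.symm.toRingHom).comp ψ.toRingHom := by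
      refine MvPolynomial.ringHom_ext (fun r => ?_) fun i => by simp [ψ, ι]
      change mk (C r) = mk (ι (E.symm (ψ (C r))))
      rw [show ψ (C r) = E (expand p r) from (aeval_C _ _).trans (hE r), E.symm_apply_apply]
      induction r using MvPolynomial.induction_on with
      | C a => simp [ι]
      | add a b ha hb => simp only [map_add] at ha hb ⊢; rw [ha, hb]
      | mul_X a i ha =>
        simp only [map_mul, expand_X] at ha ⊢
        rw [ha, show mk (ι (X i ^ p)) = mk (C (X i)) from Ideal.Quotient.eq.mpr (by
          rw [show ι (X i ^ p) = X i ^ p by simp [ι]]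
          exact Ideal.subset_span ⟨i, rfl⟩)]
    refine Ideal.Quotient.eq_zero_iff_mem.mp ((RingHom.congr_fun h q).trans ?_)
    change mk (ι (E.symm (ψ q))) = 0
    rw [show ψ q = 0 from hq, map_zero, map_zero, map_zero]
  · rw [Ideal.span_le]
    rintro _ ⟨i, rfl⟩
    show ψ (F i) = 0
    simp [ψ, F, hE]

end Groth.Agent.H9Synt
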