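import Groth.Agent.H9CI.Global
import Groth.Agent.S5763
import Groth.Agent.H9Synt.Basic
import Mathlib.RingTheory.KrullDimension.Polynomial
import Mathlib.RingTheory.Polynomial.Basic
import Mathlib.RingTheory.Algebraic.Basic

/-!
Field extensions as unions of global complete intersection subalgebras.
-/

namespace Groth.Agent.H9Synt.FieldExt

universe u

open Polynomial

variable {k : Type u} [Field k]

/-- A one-variable extension of a presentation by `d` further relations. -/
theorem isGlobalCI_of_surjective {n c d : ℕ} {T : Type u} [CommRing T] [Algebra k T]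
    (ψ : (MvPolynomial (Fin n) k)[X] →ₐ[k] T) (hψ : Function.Surjective ψ)
    (r : Fin c → MvPolynomial (Fin n) k) (s : Fin d → (MvPolynomial (Fin n) k)[X])
    (hker : RingHom.ker ψ.toRingHom =
      (Ideal.span (Set.range r)).map (C : MvPolynomial (Fin n) k →+* _) ⊔ Ideal.span (Set.range s))
    {N : ℕ} (hN : N + (c + d) = n + 1) (hdim : ringKrullDim T = N) : Synt.IsGlobalCI k T := by
  let e := MvPolynomial.finSuccEquiv k n
  refine Or.inr ⟨n + 1, c + d, by omega, ψ.comp e.toAlgHom,
    Fin.append (fun i => e.symm (C (r i))) (fun i => e.symm (s i)), hψ.comp e.surjective, ?_, ?_⟩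
  · rw [AlgHom.toRingHom_eq_coe]
    show RingHom.ker (ψ.toRingHom.comp e.toRingEquiv.toRingHom) = _
    rw [← RingHom.comap_ker, hker, Ideal.map_span, ← Ideal.span_union]
    show Ideal.comap (RingHomClass.toRingHom e.toRingEquiv) _ = _
    refine Eq.trans (Ideal.map_symm e.toRingEquiv).symm ?_
    rw [Ideal.map_span]
    congr 1
    ext z
    simp only [Set.image_union, Set.mem_union, Set.mem_image, Set.mem_range]
    constructor
    · rintro (⟨_, ⟨_, ⟨i, rfl⟩, rfl⟩, rfl⟩ | ⟨_, ⟨i, rfl⟩, rfl⟩)
      · exact ⟨Fin.castAdd d i, by simp⟩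
      · exact ⟨Fin.natAdd c i, by simp⟩
    · rintro ⟨i, rfl⟩
      induction i using Fin.addCases with
      | left i => exact Or.inl ⟨_, ⟨_, ⟨i, rfl⟩, rfl⟩, by simp⟩
      | right i => exact Or.inr ⟨_, ⟨i, rfl⟩, by simp⟩
  · rw [hdim, show n + 1 - (c + d) = N from by omega]

variable {K : Type u} [Field K] [Algebra k K]

/-- The evaluation at `a` of polynomials over a subalgebra, over the base field. -/
noncomputable def evalAt (A : Subalgebra k K) (a : K) : A[X] →ₐ[k] K :=
  (aeval (R := A) a).restrictScalars k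

theorem evalAt_apply (A : Subalgebra k K) (a : K) (f : A[X]) : evalAt A a f = aeval a f := rfl

/-- Adjoining a root with prescribed relations. -/
theorem isGlobalCI_range {n c d : ℕ} (A : Subalgebra k K) (a : K)
    (φ : MvPolynomial (Fin n) k →ₐ[k] A) (r : Fin c → MvPolynomial (Fin n) k)
    (hφ : Function.Surjective φ) (hker : RingHom.ker φ.toRingHom = Ideal.span (Set.range r))
    (s : Fin d → A[X]) (hs : RingHom.ker (evalAt A a).toRingHom = Ideal.span (Set.range s))
    {N : ℕ} (hN : N + (c + d) = n + 1) (hdim : ringKrullDim (evalAt A a).range = N) :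
    Synt.IsGlobalCI k (evalAt A a).range := by
  let μ : (MvPolynomial (Fin n) k)[X] →ₐ[k] A[X] := Polynomial.mapAlgHom φ
  have hμ : Function.Surjective μ := Polynomial.map_surjective φ.toRingHom hφ
  choose s' hs' using fun i => hμ (s i)
  refine isGlobalCI_of_surjective ((evalAt A a).rangeRestrict.comp μ)
    ((evalAt A a).rangeRestrict_surjective.comp hμ) r s' ?_ hN hdim
  have h1 : RingHom.ker ((evalAt A a).rangeRestrict.comp μ).toRingHom =
      (RingHom.ker (evalAt A a).toRingHom).comap μ.toRingHom := by
    ext f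
    show (evalAt A a).rangeRestrict (μ f) = 0 ↔ evalAt A a (μ f) = 0
    exact Subtype.ext_iff
  have h2 : RingHom.ker μ.toRingHom = (Ideal.span (Set.range r)).map C := by
    rw [← hker]
    exact Polynomial.ker_mapRingHom φ.toRingHom
  have h3 : Ideal.span (Set.range s) = (Ideal.span (Set.range s')).map μ.toRingHom := by
    rw [Ideal.map_span]
    congr 1
    rw [← Set.range_comp]
    exact congrArg Set.range (funext fun i => (hs' i).symm)
  rw [h1, hs, h3, Ideal.comap_map_of_surjective' μ.toRingHom hμ, h2, sup_comm]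

theorem nontrivial_presentation {A : Subalgebra k K} (h : Synt.IsGlobalCI k A) :
    ∃ (n c : ℕ), c ≤ n ∧ ∃ (φ : MvPolynomial (Fin n) k →ₐ[k] A)
      (r : Fin c → MvPolynomial (Fin n) k), Function.Surjective φ ∧
      RingHom.ker φ.toRingHom = Ideal.span (Set.range r) ∧
      ringKrullDim A = ((n - c : ℕ) : WithBot ℕ∞) :=
  h.resolve_left (not_subsingleton A)

/-- The range of evaluation contains the coefficients and the point. -/
theorem subset_range (A : Subalgebra k K) (a : K) :
    A ≤ (evalAt A a).range ∧ a ∈ (evalAt A a).range := by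
  refine ⟨fun z hz => ⟨C ⟨z, hz⟩, ?_⟩, ⟨X, ?_⟩⟩
  · show aeval a (C (⟨z, hz⟩ : A)) = z
    rw [aeval_C]
    rfl
  · show aeval a (X : A[X]) = a
    rw [aeval_X]

/-- Adjoining a transcendental element. -/
theorem exists_transcendental {A : Subalgebra k K} (h : Synt.IsGlobalCI k A) {a : K}
    (ha : ¬ IsAlgebraic A a) :
    ∃ B : Subalgebra k K, A ≤ B ∧ a ∈ B ∧ Synt.IsGlobalCI k B := by
  obtain ⟨n, c, hc, φ, r, hφ, hker, hdim⟩ := nontrivial_presentation h
  refine ⟨_, (subset_range A a).1, (subset_range A a).2, ?_⟩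
  have hinj : Function.Injective (evalAt A a) := transcendental_iff_injective.mp ha
  have : IsNoetherianRing A := by
    exact isNoetherianRing_of_surjective (MvPolynomial (Fin n) k) A φ.toRingHom hφ
  refine isGlobalCI_range A a φ r hφ hker (d := 0) Fin.elim0 ?_ (N := n - c + 1) (by omega) ?_
  · rw [(RingHom.injective_iff_ker_eq_bot (evalAt A a).toRingHom).mp hinj]
    simp
  · rw [← ringKrullDim_eq_of_ringEquiv (AlgEquiv.ofInjective (evalAt A a) hinj).toRingEquiv,
      Polynomial.ringKrullDim_of_isNoetherianRing, hdim]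
    norm_cast

/-- Adjoining a root of a monic polynomial of least degree. -/
theorem exists_monic {A : Subalgebra k K} (h : Synt.IsGlobalCI k A) {a : K} {P : A[X]}
    (hP : P.Monic) (hPa : aeval a P = 0)
    (hmin : ∀ f : A[X], aeval a f = 0 → f ≠ 0 → P.natDegree ≤ f.natDegree) :
    ∃ B : Subalgebra k K, A ≤ B ∧ a ∈ B ∧ Synt.IsGlobalCI k B := by
  obtain ⟨n, c, hc, φ, r, hφ, hker, hdim⟩ := nontrivial_presentation h
  refine ⟨_, (subset_range A a).1, (subset_range A a).2, ?_⟩
  have hk : RingHom.ker (evalAt A a).toRingHom = Ideal.span (Set.range fun _ : Fin 1 => P) := by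
    rw [Set.range_const]
    refine le_antisymm (fun f hf => ?_) ((Ideal.span_singleton_le_iff_mem _).mpr hPa)
    change aeval a f = 0 at hf
    rw [Ideal.mem_span_singleton, ← modByMonic_eq_zero_iff_dvd hP]
    by_contra hne
    have h1 : aeval a (f %ₘ P) = 0 := by
      rw [modByMonic_eq_sub_mul_div f P, map_sub, map_mul, hPa, zero_mul, sub_zero, hf]
    exact absurd (hmin _ h1 hne)
      (not_le.mpr (natDegree_lt_natDegree hne (degree_modByMonic_lt f hP)))
  let : Algebra A (evalAt A a).range :=
    ((evalAt A a).rangeRestrict.toRingHom.comp C).toAlgebra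
  have hint : Algebra.IsIntegral A (evalAt A a).range := by
    refine ⟨?_⟩
    rintro ⟨_, f, rfl⟩
    have hX : IsIntegral A ((evalAt A a).rangeRestrict X) := by
      refine ⟨P, hP, Subtype.ext ?_⟩
      show (((evalAt A a).range.val).toRingHom (P.eval₂ (algebraMap A (evalAt A a).range) _)) = 0
      rw [hom_eval₂, ← hPa, aeval_def]
      congr 1
      · exact RingHom.ext fun z => show evalAt A a (C z) = _ from aeval_C a z
      · exact aeval_X a
    have : (⟨(evalAt A a) f, f, rfl⟩ : (evalAt A a).range) =
        aeval ((evalAt A a).rangeRestrict X) f := by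
      let F : A[X] →ₐ[A] (evalAt A a).range :=
        { (evalAt A a).rangeRestrict.toRingHom with commutes' := fun _ => rfl }
      show F f = aeval (F X) f
      rw [aeval_algHom_apply, aeval_X_left_apply]
    change IsIntegral A (⟨(evalAt A a) f, f, rfl⟩ : (evalAt A a).range)
    rw [this]
    exact IsIntegral.of_mem_of_fg _ hX.fg_adjoin_singleton _ (aeval_mem_adjoin_singleton _ _)
  refine isGlobalCI_range A a φ r hφ hker _ hk (N := n - c) (by omega) ?_
  rw [(S5763.result A (evalAt A a).range).2 (fun y z hyz => ?_), hdim]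
  have := congrArg (fun w : (evalAt A a).range => (w : K)) hyz
  change aeval a (C y) = aeval a (C z) at this
  rw [aeval_C, aeval_C] at this
  exact Subtype.ext this

theorem aeval_eq_eval_map (A : Subalgebra k K) (a : K) (f : A[X]) :
    aeval a f = (f.map (algebraMap A K)).eval a := by
  rw [eval_map, aeval_def]

/-- Adjoining an algebraic element. -/
theorem exists_algebraic {A : Subalgebra k K} (h : Synt.IsGlobalCI k A) {a : K}
    (ha : IsAlgebraic A a) :
    ∃ B : Subalgebra k K, A ≤ B ∧ a ∈ B ∧ Synt.IsGlobalCI k B := by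
  classical
  obtain ⟨P₁, hP₁⟩ := ha
  let S : Set A[X] := {f | f ≠ 0 ∧ aeval a f = 0}
  let P := Function.argminOn (natDegree) S ⟨P₁, hP₁⟩
  have hP : P ∈ S := Function.argminOn_mem _ _ _
  have hmin : ∀ f ∈ S, P.natDegree ≤ f.natDegree := fun f hf => Function.argminOn_le _ _ hf
  let c₀ := P.leadingCoeff
  have hc₀ : c₀ ≠ 0 := leadingCoeff_ne_zero.mpr hP.1
  have hc₀K : (c₀ : K) ≠ 0 := fun h0 => hc₀ (Subtype.ext h0)
  let j : Localization.Away c₀ →ₐ[k] K :=
    IsLocalization.Away.liftAlgHom c₀ (f := A.val) (isUnit_iff_ne_zero.mpr hc₀K)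
  have hjA : ∀ z : A, j (algebraMap A (Localization.Away c₀) z) = z := fun z =>
    IsLocalization.Away.lift_eq c₀ (isUnit_iff_ne_zero.mpr hc₀K) z
  have hj : Function.Injective j := by
    show Function.Injective (IsLocalization.lift (S := Localization.Away c₀) _)
    rw [IsLocalization.lift_injective_iff]
    intro y z
    exact ⟨fun hyz => by show (y : K) = (z : K); rw [← hjA, ← hjA, hyz],
      fun hyz => congrArg (algebraMap A (Localization.Away c₀)) (Subtype.ext hyz)⟩
  have hA' : Synt.IsGlobalCI k j.range :=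
    isGlobalCI_of_algEquiv (AlgEquiv.ofInjective j hj) (H9CI.isGlobalCI_away h c₀)
  have hle : A ≤ j.range := fun z hz => ⟨algebraMap A _ ⟨z, hz⟩, hjA ⟨z, hz⟩⟩
  let i : A →+* j.range := (Subalgebra.inclusion hle).toRingHom
  have hi : (algebraMap j.range K).comp i = algebraMap A K := rfl
  have hinjA : Function.Injective (algebraMap A K) := Subtype.val_injective
  have hinj' : Function.Injective (algebraMap j.range K) := Subtype.val_injective
  let w : j.range := j.rangeRestrict (IsLocalization.Away.invSelf c₀)
  have hw : i c₀ * w = 1 := Subtype.ext (by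
    show (c₀ : K) * j (IsLocalization.Away.invSelf c₀) = 1
    rw [← hjA c₀, ← map_mul, IsLocalization.Away.mul_invSelf, map_one])
  let P' : j.range[X] := P.map i * C w
  have hmon : P'.Monic := by
    refine monic_mul_C_of_leadingCoeff_mul_eq_one ?_
    rw [leadingCoeff_map_of_injective (Subalgebra.inclusion_injective hle)]
    exact hw
  have hdeg : P'.natDegree ≤ P.natDegree :=
    (natDegree_mul_C_le _ _).trans natDegree_map_le
  have hroot : aeval a P' = 0 := by
    rw [aeval_eq_eval_map, Polynomial.map_mul, eval_mul, Polynomial.map_map, hi,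
      ← aeval_eq_eval_map, hP.2, zero_mul]
  obtain ⟨B, hB, haB, hGCI⟩ := exists_monic hA' hmon hroot fun f hf hf0 => by
    let e := (AlgEquiv.ofInjective j hj).symm.toRingEquiv.toRingHom
    obtain ⟨⟨b, hb⟩, hq⟩ :=
      IsLocalization.integerNormalization_map_to_map (Submonoid.powers c₀) (f.map e)
    let q := IsLocalization.integerNormalization (Submonoid.powers c₀) (f.map e)
    have hje : j.toRingHom.comp e = algebraMap j.range K := RingHom.ext fun z => by
      show j ((AlgEquiv.ofInjective j hj).symm z) = (z : K)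
      exact congrArg Subtype.val ((AlgEquiv.ofInjective j hj).apply_symm_apply z)
    have hqK : q.map (algebraMap A K) = C (b : K) * f.map (algebraMap j.range K) := by
      have h2 := congrArg (Polynomial.map j.toRingHom) hq
      rw [Polynomial.map_map] at h2
      rw [show j.toRingHom.comp (algebraMap A (Localization.Away c₀)) = algebraMap A K from
        RingHom.ext hjA] at h2
      rw [h2, Algebra.smul_def, Polynomial.map_mul, Polynomial.map_map, hje,
        IsScalarTower.algebraMap_apply A (Localization.Away c₀) (Localization.Away c₀)[X],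
        ← C_eq_algebraMap, map_C]
      congr 2
      exact hjA b
    have hbK : (b : K) ≠ 0 := by
      obtain ⟨m, rfl⟩ := hb
      rw [SubmonoidClass.coe_pow]
      exact pow_ne_zero _ hc₀K
    have hq0 : q ≠ 0 := fun h0 => hf0 (Polynomial.map_injective _ hinj' (by
      rw [h0, Polynomial.map_zero, eq_comm, mul_eq_zero] at hqK
      simpa [hbK] using hqK))
    have hqa : aeval a q = 0 := by
      rw [aeval_eq_eval_map, hqK, eval_mul, ← aeval_eq_eval_map, hf, mul_zero]
    have hqd : q.natDegree = f.natDegree := by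
      rw [← natDegree_map_eq_of_injective hinjA q, hqK, natDegree_C_mul hbK,
        natDegree_map_eq_of_injective hinj' f]
    exact hdeg.trans (hqd ▸ hmin q ⟨hq0, hqa⟩)
  exact ⟨B, hle.trans hB, haB, hGCI⟩

/-- Every finite subset of a field extension lies in a global complete intersection subalgebra. -/
theorem exists_subalgebra (E : Finset K) :
    ∃ A : Subalgebra k K, (↑E : Set K) ⊆ (A : Set K) ∧ Synt.IsGlobalCI k A := by
  classical
  induction E using Finset.induction with
  | empty =>
    refine ⟨⊥, by simp, isGlobalCI_of_algEquiv (Algebra.botEquiv k K).symm ?_⟩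
    refine Or.inr ⟨0, 0, le_rfl, MvPolynomial.aeval Fin.elim0, Fin.elim0,
      fun z => ⟨MvPolynomial.C z, by simp⟩, ?_, ?_⟩
    · rw [Set.range_eq_empty, Ideal.span_empty]
      exact (RingHom.injective_iff_ker_eq_bot _).mp fun y z hyz => by
        obtain ⟨y, rfl⟩ := MvPolynomial.C_surjective (Fin 0) y
        obtain ⟨z, rfl⟩ := MvPolynomial.C_surjective (Fin 0) z
        simpa using hyz
    · rw [ringKrullDim_eq_zero_of_field]
      rfl
  | insert a E _ ih =>
    obtain ⟨A, hE, hA⟩ := ih
    obtain ⟨B, hAB, haB, hB⟩ : ∃ B : Subalgebra k K, A ≤ B ∧ a ∈ B ∧ Synt.IsGlobalCI k B := by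
      by_cases ha : IsAlgebraic A a
      · exact exists_algebraic hA ha
      · exact exists_transcendental hA ha
    refine ⟨B, ?_, hB⟩
    rw [Finset.coe_insert, Set.insert_subset_iff]
    exact ⟨haB, hE.trans hAB⟩

end Groth.Agent.H9Synt.FieldExt
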