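import Groth.Agent.H9Synt.SyntomicRetractPres
import Groth.Agent.H9CI.SmoothGraph
import Mathlib.Algebra.TrivSqZeroExt.Basic
import Mathlib.RingTheory.Smooth.Kaehler

/-!
# Equations for a section of a smooth algebra
-/

set_option linter.style.haveILetI false

universe u

open MvPolynomial TensorProduct CategoryTheory AlgebraicGeometry TrivSqZeroExt

namespace Groth.Agent.H9Synt

/-- An idempotent ideal modulo `K` is killed modulo `K` by an element which is one modulo the ideal. -/
theorem exists_mul_mem_of_le_sup_sq {C : Type u} [CommRing C] (J K : Ideal C) (hJ : J.FG) (hKJ : K ≤ J)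
    (hle : J ≤ K ⊔ J * J) : ∃ r, r - 1 ∈ J ∧ ∀ z ∈ J, r * z ∈ K := by
  let Jb := J.map (Ideal.Quotient.mk K)
  have hle' : Jb ≤ Jb • Jb := by
    refine (Ideal.map_mono hle).trans ?_
    rw [Ideal.map_sup, Ideal.map_quotient_self, bot_sup_eq, Ideal.map_mul, smul_eq_mul]
  obtain ⟨r', hr', hr0⟩ := Submodule.exists_sub_one_mem_and_smul_eq_zero_of_fg_of_le_smul Jb Jb (hJ.map _) hle'
  obtain ⟨r, rfl⟩ := Ideal.Quotient.mk_surjective r'
  refine ⟨r, ?_, fun z hz => ?_⟩
  · rw [← map_one (Ideal.Quotient.mk K), ← map_sub, ← Ideal.mem_comap,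
      Ideal.comap_map_of_surjective _ Ideal.Quotient.mk_surjective, ← RingHom.ker_eq_comap_bot, Ideal.mk_ker,
      sup_eq_left.mpr hKJ] at hr'
    exact hr'
  · rw [← Ideal.Quotient.eq_zero_iff_mem, map_mul]
    exact hr0 _ (Ideal.mem_map_of_mem _ hz)

variable {A C : Type u} [CommRing A] [CommRing C] [Algebra A C] [Algebra.Smooth A C]

/-- A derivation at a section which splits the conormal module. -/
theorem exists_section_derivation (ρ : C →ₐ[A] A) :
    ∃ (m : ℕ) (Λ : C →ₐ[A] TrivSqZeroExt A (Fin m → A)) (f : Fin m → C),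
      (∀ x, (Λ x).fst = ρ x) ∧ (∀ l, ρ (f l) = 0) ∧
      ∀ x, ρ x = 0 → x - ∑ l, algebraMap A C ((Λ x).snd l) * f l ∈
        RingHom.ker ρ.toRingHom * RingHom.ker ρ.toRingHom := by
  classical
  let J := RingHom.ker ρ.toRingHom
  obtain ⟨m, π, hπ⟩ := Module.Finite.exists_fin' C Ω[C⁄A]
  obtain ⟨s, hs⟩ := Module.projective_lifting_property π LinearMap.id hπ
  let D := KaehlerDifferential.D A C
  let δ : C →ₗ[A] (Fin m → A) := (ρ.toLinearMap.compLeft (Fin m)).comp ((s.restrictScalars A).comp D.toLinearMap)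
  have hδmul : ∀ x y, δ (x * y) = ρ x • δ y + ρ y • δ x := fun x y => by
    funext l
    show ρ (s (D (x * y)) l) = ρ x * ρ (s (D y) l) + ρ y * ρ (s (D x) l)
    rw [D.leibniz, map_add, map_smul, map_smul, Pi.add_apply, Pi.smul_apply, Pi.smul_apply, map_add, smul_eq_mul,
      smul_eq_mul, map_mul, map_mul]
  have hδalg : ∀ a, δ (algebraMap A C a) = 0 := fun a => by
    funext l
    show ρ (s (D (algebraMap A C a)) l) = 0
    rw [D.map_algebraMap, map_zero, Pi.zero_apply, map_zero]
  let Λ : C →ₐ[A] TrivSqZeroExt A (Fin m → A) :=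
    { toFun := fun x => inl (ρ x) + inr (δ x)
      map_one' := by
        rw [map_one, ← map_one (algebraMap A C), hδalg]
        ext <;> simp
      map_zero' := by simp
      map_add' := fun x y => by
        ext <;> simp
      map_mul' := fun x y => by
        ext <;> simp [hδmul, mul_comm]
      commutes' := fun a => by
        rw [ρ.commutes, hδalg, TrivSqZeroExt.algebraMap_eq_inl]
        ext <;> simp }
  -- the derivation to the conormal module
  have hmem : ∀ a : C, a - algebraMap A C (ρ a) ∈ J := fun a => by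
    show ρ (a - algebraMap A C (ρ a)) = 0
    rw [map_sub, ρ.commutes]
    exact sub_self _
  let L : C →ₗ[A] J :=
    { toFun := fun a => ⟨a - algebraMap A C (ρ a), hmem a⟩
      map_add' := fun a b => Subtype.ext (by simp only [map_add, Submodule.coe_add]; ring)
      map_smul' := fun r a => Subtype.ext (by
        simp only [RingHom.id_apply, Algebra.smul_def, map_mul, AlgHom.commutes, Algebra.algebraMap_self, Submodule.coe_smul_of_tower]
        ring) }
  let d : Derivation A C J.Cotangent := Derivation.mk' ((J.toCotangent.restrictScalars A).comp L) fun a b => by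
    show J.toCotangent (L (a * b)) = a • J.toCotangent (L b) + b • J.toCotangent (L a)
    rw [← J.toCotangent.map_smul, ← J.toCotangent.map_smul, ← map_add, Ideal.toCotangent_eq, pow_two]
    show a * b - algebraMap A C (ρ (a * b)) -
        (a * (b - algebraMap A C (ρ b)) + b * (a - algebraMap A C (ρ a))) ∈ J * J
    rw [map_mul, map_mul, show a * b - algebraMap A C (ρ a) * algebraMap A C (ρ b) -
        (a * (b - algebraMap A C (ρ b)) + b * (a - algebraMap A C (ρ a))) =
        -((a - algebraMap A C (ρ a)) * (b - algebraMap A C (ρ b))) by ring]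
    exact neg_mem (Ideal.mul_mem_mul (hmem a) (hmem b))
  let Φ := d.liftKaehlerDifferential
  choose f hf using fun l => J.toCotangent_surjective (Φ (π (Pi.single l 1)))
  refine ⟨m, Λ, fun l => f l, fun x => by simp [Λ], fun l => (f l).2, fun x hx => ?_⟩
  have hxJ : x ∈ J := hx
  have h1 : J.toCotangent ⟨x, hxJ⟩ = Φ (π (s (D x))) := by
    rw [show π (s (D x)) = D x from DFunLike.congr_fun hs (D x), Derivation.liftKaehlerDifferential_comp_D]
    show _ = J.toCotangent (L x)
    exact congrArg _ (Subtype.ext (by show x = x - algebraMap A C (ρ x); rw [hx, map_zero, sub_zero]))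
  have h2 : J.toCotangent ⟨x, hxJ⟩ = J.toCotangent (∑ l, s (D x) l • f l) := by
    rw [h1, map_sum]
    conv_lhs => rw [pi_eq_sum_univ' (s (D x))]
    simp only [map_sum, map_smul, hf]
  have h3 : x - ∑ l, s (D x) l * (f l : C) ∈ J * J := by
    have := J.toCotangent_eq.mp h2
    rw [pow_two] at this
    simpa using this
  have hΛ : ∀ l, (Λ x).snd l = ρ (s (D x) l) := fun l => by simp [Λ, δ]
  have h4 : ∑ l, (s (D x) l - algebraMap A C ((Λ x).snd l)) * (f l : C) ∈ J * J :=
    sum_mem fun l _ => Ideal.mul_mem_mul (by rw [hΛ]; exact hmem _) (f l).2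
  have h5 := add_mem h3 h4
  convert h5 using 1
  simp only [sub_mul, Finset.sum_sub_distrib]
  ring


/-- Equations with independent differentials cutting out a section, after adding a projective bundle. -/
theorem exists_section_equations (ρ : C →ₐ[A] A) :
    ∃ (m : ℕ) (e : Fin m → Fin m → C) (_ : ∀ k j, ∑ l, e k l * e l j = e k j) (g : Fin m → SymI e)
      (Λ : SymI e →ₐ[A] TrivSqZeroExt A (Fin m → A)),
      (∀ j, Λ (g j) = inr (Pi.single j 1)) ∧
      (∀ x : C, (Λ (algebraMap C (SymI e) x)).fst = ρ x) ∧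
      ∃ r, (Λ r).fst = 1 ∧ ∀ x, (Λ x).fst = 0 → r * x ∈ Ideal.span (Set.range g) := by
  classical
  obtain ⟨m, Λ₀, f, hfst, hf, hsplit⟩ := exists_section_derivation ρ
  let J := RingHom.ker ρ.toRingHom
  let ε : Fin m → Fin m → A := fun k j => (Λ₀ (f j)).snd k
  have hδJ2 : ∀ x ∈ J * J, Λ₀ x = 0 := fun x hx => by
    refine Submodule.mul_induction_on hx (fun a ha b hb => ?_) fun a b ha hb => by rw [map_add, ha, hb, add_zero]
    have ha' : Λ₀ a = inr (Λ₀ a).snd := by ext <;> simp [hfst, show ρ a = 0 from ha]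
    have hb' : Λ₀ b = inr (Λ₀ b).snd := by ext <;> simp [hfst, show ρ b = 0 from hb]
    rw [map_mul, ha', hb', inr_mul_inr]
  have hε : ∀ k j, ∑ l, ε k l * ε l j = ε k j := fun k j => by
    have h := congrArg (fun t : TrivSqZeroExt A (Fin m → A) => t.snd k) (hδJ2 _ (hsplit (f j) (hf j)))
    simp only [map_sub, map_sum, map_mul, AlgHom.commutes, TrivSqZeroExt.algebraMap_eq_inl, snd_sub, snd_zero,
      Pi.sub_apply, Pi.zero_apply, sub_eq_zero, snd_sum, Finset.sum_apply] at h
    refine Eq.trans ?_ h.symm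
    exact Finset.sum_congr rfl fun l _ => by simp [ε, mul_comm]
  let ε' : Fin m → Fin m → A := fun k j => (if k = j then 1 else 0) - ε k j
  have hε' : ∀ k j, ∑ l, ε' k l * ε' l j = ε' k j := fun k j => by
    simp [ε', sub_mul, mul_sub, Finset.sum_sub_distrib, hε]
  let e : Fin m → Fin m → C := fun k j => algebraMap A C (ε' k j)
  have he : ∀ k j, ∑ l, e k l * e l j = e k j := fun k j => by simp only [e, ← map_mul, ← map_sum, hε']
  let v : Fin m → TrivSqZeroExt A (Fin m → A) := fun j => inr fun k => ε' k j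
  let Λ₁ : MvPolynomial (Fin m) C →ₐ[A] TrivSqZeroExt A (Fin m → A) := MvPolynomial.aevalTower Λ₀ v
  have hΛ₁ : Ideal.span (Set.range (relE e)) ≤ RingHom.ker Λ₁.toRingHom := by
    rw [Ideal.span_le]
    rintro _ ⟨j, rfl⟩
    show Λ₁ (relE e j) = 0
    simp only [relE, e, Λ₁, map_sub, map_sum, map_mul, aevalTower_X, aevalTower_C, AlgHom.commutes,
      TrivSqZeroExt.algebraMap_eq_inl]
    ext k
    · simp [v, fst_sum]
    · simp only [v, snd_sub, snd_sum, snd_inr, Pi.sub_apply, Finset.sum_apply, snd_zero, Pi.zero_apply, sub_eq_zero]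
      rw [← hε' k j]
      exact Finset.sum_congr rfl fun l _ => by simp [mul_comm]
  let Λ : SymI e →ₐ[A] TrivSqZeroExt A (Fin m → A) := Ideal.Quotient.liftₐ _ Λ₁ fun x hx => hΛ₁ hx
  let y : Fin m → SymI e := fun j => Ideal.Quotient.mk _ (X j)
  let g : Fin m → SymI e := fun j => algebraMap C (SymI e) (f j) + y j
  have hΛC : ∀ x : C, Λ (algebraMap C (SymI e) x) = Λ₀ x := fun x => aevalTower_C Λ₀ v x
  have hΛy : ∀ j, Λ (y j) = v j := fun j => aevalTower_X Λ₀ v j
  have hΛg : ∀ j, Λ (g j) = inr (Pi.single j 1) := fun j => by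
    simp only [g, map_add, hΛC, hΛy, v]
    ext k
    · simp [hfst, hf]
    · simp [ε', ε, Pi.single_apply]
  refine ⟨m, e, he, g, Λ, hΛg, fun x => by rw [hΛC, hfst], ?_⟩
  let ρD : SymI e →ₐ[A] A := (TrivSqZeroExt.fstHom A A (Fin m → A)).comp Λ
  let JD := RingHom.ker ρD.toRingHom
  have hJy : ∀ j, y j ∈ JD := fun j => by
    show (Λ (y j)).fst = 0
    simp [hΛy, v]
  have hJC : ∀ x ∈ J, algebraMap C (SymI e) x ∈ JD := fun x hx => by
    show (Λ (algebraMap C (SymI e) x)).fst = 0
    rw [hΛC, hfst]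
    exact hx
  have hJD : JD = J.map (algebraMap C (SymI e)) ⊔ Ideal.span (Set.range y) := by
    refine le_antisymm (fun x hx => ?_) (sup_le (Ideal.map_le_iff_le_comap.mpr hJC)
      (Ideal.span_le.mpr (Set.range_subset_iff.mpr hJy)))
    have key : ∀ z : SymI e, z - algebraMap C (SymI e) (algebraMap A C (ρD z)) ∈
        J.map (algebraMap C (SymI e)) ⊔ Ideal.span (Set.range y) := fun z => by
      obtain ⟨z, rfl⟩ := Ideal.Quotient.mk_surjective z
      induction z using MvPolynomial.induction_on with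
      | C a =>
        show algebraMap C (SymI e) a - algebraMap C (SymI e) (algebraMap A C (Λ (algebraMap C (SymI e) a)).fst) ∈ _
        rw [hΛC, hfst, ← map_sub]
        refine Ideal.mem_sup_left (Ideal.mem_map_of_mem _ ?_)
        show ρ (a - algebraMap A C (ρ a)) = 0
        rw [map_sub, ρ.commutes]
        exact sub_self _
      | add p q hp hq =>
        simp only [map_add]
        rw [add_sub_add_comm]
        exact add_mem hp hq
      | mul_X p i hp =>
        simp only [map_mul]
        rw [show ρD (Ideal.Quotient.mk _ (X i)) = 0 from hJy i, map_zero, map_zero, mul_zero, sub_zero]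
        exact Ideal.mul_mem_left _ _ (Ideal.mem_sup_right (Ideal.subset_span ⟨i, rfl⟩))
    have h := key x
    rwa [show ρD x = 0 from hx, map_zero, map_zero, sub_zero] at h
  have hεy : ∀ j, ∑ l, algebraMap C (SymI e) (algebraMap A C (ε l j)) * y l = 0 := fun j => by
    have h := symI_sum_eq e j
    simp only [e, ε', map_sub, sub_mul, Finset.sum_sub_distrib, apply_ite (algebraMap A C),
      apply_ite (algebraMap C (SymI e)), map_one, map_zero, ite_mul, one_mul, zero_mul, Finset.sum_ite_eq',
      Finset.mem_univ, if_true] at h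
    exact sub_eq_self.mp h
  let K := Ideal.span (Set.range g)
  have hgJ : K ≤ JD := Ideal.span_le.mpr (Set.range_subset_iff.mpr fun j => add_mem (hJC _ (hf j)) (hJy j))
  have hfK : ∀ j, algebraMap C (SymI e) (f j) ∈ K ⊔ JD * JD := fun j => by
    have h1 : ∑ l, algebraMap C (SymI e) (algebraMap A C (ε l j)) * g l =
        algebraMap C (SymI e) (∑ l, algebraMap A C (ε l j) * f l) := by
      simp only [g, mul_add, Finset.sum_add_distrib, hεy, add_zero, map_sum, map_mul]
    have h2 : algebraMap C (SymI e) (f j - ∑ l, algebraMap A C (ε l j) * f l) ∈ JD * JD := by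
      have := Ideal.mem_map_of_mem (algebraMap C (SymI e)) (hsplit (f j) (hf j))
      rw [Ideal.map_mul] at this
      exact Ideal.mul_mono (Ideal.map_le_iff_le_comap.mpr hJC) (Ideal.map_le_iff_le_comap.mpr hJC) this
    rw [show algebraMap C (SymI e) (f j) = algebraMap C (SymI e) (f j - ∑ l, algebraMap A C (ε l j) * f l) +
      ∑ l, algebraMap C (SymI e) (algebraMap A C (ε l j)) * g l by rw [h1, ← map_add, sub_add_cancel]]
    exact add_mem (Ideal.mem_sup_right h2)
      (Ideal.mem_sup_left (sum_mem fun l _ => Ideal.mul_mem_left _ _ (Ideal.subset_span ⟨l, rfl⟩)))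
  have hle : JD ≤ K ⊔ JD * JD := by
    refine hJD.le.trans (sup_le (Ideal.map_le_iff_le_comap.mpr fun x hx => ?_) (Ideal.span_le.mpr ?_))
    · rw [Ideal.mem_comap, ← sub_add_cancel x (∑ l, algebraMap A C ((Λ₀ x).snd l) * f l), map_add, map_sum]
      refine add_mem (Ideal.mem_sup_right ?_) (sum_mem fun l _ => ?_)
      · have := Ideal.mem_map_of_mem (algebraMap C (SymI e)) (hsplit x hx)
        rw [Ideal.map_mul] at this
        exact Ideal.mul_mono (Ideal.map_le_iff_le_comap.mpr hJC) (Ideal.map_le_iff_le_comap.mpr hJC) this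
      · rw [map_mul]
        exact Ideal.mul_mem_left _ _ (hfK l)
    · rintro _ ⟨j, rfl⟩
      rw [show y j = g j - algebraMap C (SymI e) (f j) from (add_sub_cancel_left _ _).symm]
      exact sub_mem (Ideal.mem_sup_left (Ideal.subset_span ⟨j, rfl⟩)) (hfK j)
  have hfg : JD.FG := hJD ▸ Submodule.FG.sup
    ((Algebra.FinitePresentation.ker_fG_of_surjective ρ fun a => ⟨algebraMap A C a, ρ.commutes a⟩).map _)
    (Submodule.fg_span (Set.finite_range _))
  obtain ⟨r, hr1, hr⟩ := exists_mul_mem_of_le_sup_sq JD K hfg hgJ hle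
  refine ⟨r, ?_, fun x hx => hr x hx⟩
  have h0 : ρD (r - 1) = 0 := hr1
  rwa [map_sub, map_one, sub_eq_zero] at h0

omit [Algebra.Smooth A C] in
/-- Trivial square zero extensions are functorial in the base. -/
theorem exists_tsze_map (m : ℕ) (K : Type u) [CommRing K] [Algebra A K] :
    ∃ φ : TrivSqZeroExt A (Fin m → A) →ₐ[A] TrivSqZeroExt K (Fin m → K),
      ∀ x, (φ x).fst = algebraMap A K x.fst ∧ (φ x).snd = algebraMap A K ∘ x.snd :=
  ⟨{ toFun := fun x => inl (algebraMap A K x.fst) + inr (algebraMap A K ∘ x.snd)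
     map_one' := by ext <;> simp
     map_zero' := by ext <;> simp
     map_add' := fun x y => by ext <;> simp
     map_mul' := fun x y => by ext <;> simp [mul_comm, Algebra.smul_def]
     commutes' := fun a => by
       rw [TrivSqZeroExt.algebraMap_eq_inl, TrivSqZeroExt.algebraMap_eq_inl']
       ext <;> simp }, fun x => ⟨by simp, by simp⟩⟩

/-- A section with independent equations forces the fibre dimension to be large. -/
theorem le_fibreDimAt_section {m : ℕ} (Λ : C →ₐ[A] TrivSqZeroExt A (Fin m → A)) (g : Fin m → C)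
    (hg : ∀ j, Λ (g j) = inr (Pi.single j 1)) (q : Spec (CommRingCat.of A)) :
    (m : WithBot ℕ∞) ≤ FlatMor.fibreDimAt (Spec.map (CommRingCat.ofHom (algebraMap A C)))
      (PrimeSpectrum.comap ((TrivSqZeroExt.fstHom A A (Fin m → A)).comp Λ).toRingHom q) := by
  classical
  let κ := (q : PrimeSpectrum A).asIdeal.ResidueField
  obtain ⟨φ, hφ⟩ := exists_tsze_map (A := A) m κ
  let S := κ ⊗[A] C
  let Λκ : S →ₐ[κ] (TrivSqZeroExt κ (Fin m → κ)) := Algebra.TensorProduct.lift (Algebra.ofId κ (TrivSqZeroExt κ (Fin m → κ))) (φ.comp Λ) fun _ _ => Commute.all _ _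
  have hΛκ : ∀ x, Λκ ((1 : κ) ⊗ₜ[A] x) = φ (Λ x) := fun x =>
    (Algebra.TensorProduct.lift_tmul ..).trans (by rw [map_one, one_mul]; rfl)
  let ρκ : S →ₐ[κ] κ := (TrivSqZeroExt.fstHom κ κ (Fin m → κ)).comp Λκ
  have hρκ : Function.Surjective ρκ := fun a => ⟨algebraMap κ S a, ρκ.commutes a⟩
  let Q : PrimeSpectrum S := ⟨RingHom.ker ρκ.toRingHom, RingHom.ker_isPrime _⟩
  haveI hQmax : Q.asIdeal.IsMaximal := RingHom.ker_isMaximal_of_surjective ρκ.toRingHom hρκ
  have hpt : PrimeSpectrum.comap (Algebra.TensorProduct.includeRight : C →ₐ[A] S).toRingHom Q =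
      PrimeSpectrum.comap ((TrivSqZeroExt.fstHom A A (Fin m → A)).comp Λ).toRingHom q := by
    refine PrimeSpectrum.ext (Ideal.ext fun x => ?_)
    show (Λκ ((1 : κ) ⊗ₜ[A] x)).fst = 0 ↔ (Λ x).fst ∈ (q : PrimeSpectrum A).asIdeal
    rw [hΛκ, (hφ _).1]
    exact Ideal.algebraMap_residueField_eq_zero
  rw [← hpt]
  refine le_of_le_of_eq ?_ (H9CI.fibreDimAt_spec_eq_localDim (R := A) (A := C) (κ := κ) Q).symm
  haveI : Algebra.FiniteType κ S := inferInstance
  rw [H1CAlg.localDim_spec_eq_height_add (k := κ) Q]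
  letI := Ideal.Quotient.field Q.asIdeal
  rw [ringKrullDim_eq_zero_of_field, add_zero, ← IsLocalization.AtPrime.ringKrullDim_eq_height Q.asIdeal
    (Localization.AtPrime Q.asIdeal)]
  haveI : Algebra.Smooth κ S := inferInstance
  haveI := H02CA.isRegularRing_of_smooth κ S
  haveI : IsNoetherianRing S := Algebra.FiniteType.isNoetherianRing κ S
  let L := Localization.AtPrime Q.asIdeal
  haveI : IsRegularLocalRing L := IsRegularRing.isRegularLocalRing_localization Q.asIdeal
  rw [← IsRegularLocalRing.spanFinrank_maximalIdeal (R := L)]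
  have hunit : ∀ s : Q.asIdeal.primeCompl, IsUnit (Λκ s) := fun s =>
    TrivSqZeroExt.isUnit_iff_isUnit_fst.mpr (isUnit_iff_ne_zero.mpr fun h => s.2 h)
  let ΛL : L →ₐ[κ] (TrivSqZeroExt κ (Fin m → κ)) := IsLocalization.liftAlgHom (M := Q.asIdeal.primeCompl) (f := Λκ) hunit
  have hΛL : ∀ x, ΛL (algebraMap S L x) = Λκ x := fun x => IsLocalization.lift_eq _ x
  have hfst : ∀ z ∈ IsLocalRing.maximalIdeal L, (ΛL z).fst = 0 := fun z hz => by
    by_contra h0
    obtain ⟨x, s, rfl⟩ := IsLocalization.exists_mk'_eq Q.asIdeal.primeCompl z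
    have hx : x ∈ Q.asIdeal := by
      have h := Ideal.mul_mem_right (algebraMap S L s) _ hz
      rw [IsLocalization.mk'_spec] at h
      exact (IsLocalization.AtPrime.to_map_mem_maximal_iff L Q.asIdeal x).mp h
    have h := congrArg TrivSqZeroExt.fst (congrArg ΛL (IsLocalization.mk'_spec L x s))
    rw [map_mul, fst_mul, hΛL, hΛL] at h
    rw [show (Λκ x).fst = 0 from hx] at h
    exact (mul_eq_zero.mp h).elim h0 s.2
  let gens := Submodule.generators (IsLocalRing.maximalIdeal L)
  have hgfin : gens.Finite := Submodule.FG.finite_generators (IsNoetherian.noetherian _)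
  let W := Submodule.span κ ((fun z => (ΛL z).snd) '' gens)
  have hW : ∀ z ∈ IsLocalRing.maximalIdeal L, (ΛL z).snd ∈ W := fun z hz => by
    rw [← Submodule.span_generators (IsLocalRing.maximalIdeal L)] at hz
    induction hz using Submodule.span_induction with
    | mem z hz => exact Submodule.subset_span ⟨z, hz, rfl⟩
    | zero => simp
    | add a b _ _ ha hb => rw [map_add, snd_add]; exact add_mem ha hb
    | smul a z hz' ih =>
      have h0 := hfst z ((Submodule.span_generators (IsLocalRing.maximalIdeal L)).le hz')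
      rw [smul_eq_mul, map_mul, snd_mul, h0]
      simp only [MulOpposite.op_zero, zero_smul, add_zero]
      exact Submodule.smul_mem _ _ ih
  have htop : W = ⊤ := by
    rw [eq_top_iff, ← (Pi.basisFun κ (Fin m)).span_eq, Submodule.span_le]
    rintro _ ⟨j, rfl⟩
    have hmem : algebraMap S L ((1 : κ) ⊗ₜ[A] g j) ∈ IsLocalRing.maximalIdeal L := by
      rw [IsLocalization.AtPrime.to_map_mem_maximal_iff L Q.asIdeal]
      show (Λκ ((1 : κ) ⊗ₜ[A] g j)).fst = 0
      rw [hΛκ, (hφ _).1, hg, fst_inr, map_zero]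
    have h := hW _ hmem
    rw [hΛL, hΛκ, (hφ _).2, hg, snd_inr] at h
    rw [SetLike.mem_coe, show Pi.basisFun κ (Fin m) j = algebraMap A κ ∘ Pi.single j (1 : A) by
      funext k; simp [Pi.single_apply, apply_ite (algebraMap A κ)]]
    exact h
  have h1 : m ≤ gens.ncard := by
    have h2 : Module.finrank κ W = m := by rw [htop, finrank_top, Module.finrank_fin_fun]
    have hfin' : ((fun z => (ΛL z).snd) '' gens).Finite := hgfin.image _
    haveI := hfin'.fintype
    rw [← h2]
    refine (finrank_span_le_card _).trans ?_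
    rw [← Set.ncard_eq_toFinset_card']
    exact Set.ncard_image_le hgfin
  rw [← Submodule.FG.generators_ncard (IsNoetherian.noetherian _)]
  exact_mod_cast h1

end Groth.Agent.H9Synt
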