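import Groth.Agent.H9Synt.SyntomicRetractPres

/-!
# A syntomic algebra is a smooth retract of a relative global complete intersection: the proof
-/

set_option linter.style.haveILetI false

universe u

open MvPolynomial TensorProduct CategoryTheory AlgebraicGeometry

namespace Groth.Agent.H9Synt

/-- Fibre dimensions do not change on a principal open. -/
theorem fibreDimAt_away {R A B : Type u} [CommRing R] [CommRing A] [CommRing B] [Algebra R A] [Algebra R B]
    [Algebra A B] [IsScalarTower R A B] [Algebra.FiniteType R A] (g : A) [IsLocalization.Away g B]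
    (w : Spec (CommRingCat.of B)) :
    FlatMor.fibreDimAt (Spec.map (CommRingCat.ofHom (algebraMap R B))) w =
      FlatMor.fibreDimAt (Spec.map (CommRingCat.ofHom (algebraMap R A)))
        (Spec.map (CommRingCat.ofHom (algebraMap A B)) w) := by
  let j : Spec (CommRingCat.of B) ⟶ Spec (CommRingCat.of A) := Spec.map (CommRingCat.ofHom (algebraMap A B))
  haveI : IsOpenImmersion j := IsOpenImmersion.of_isLocalization g
  let π : Spec (CommRingCat.of A) ⟶ Spec (CommRingCat.of R) := Spec.map (CommRingCat.ofHom (algebraMap R A))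
  haveI : LocallyOfFiniteType π :=
    (HasRingHomProperty.Spec_iff (P := @LocallyOfFiniteType)).mpr (RingHom.finiteType_algebraMap.mpr inferInstance)
  rw [show Spec.map (CommRingCat.ofHom (algebraMap R B)) = j ≫ π by
    simp only [j, π]
    rw [← Spec.map_comp, ← CommRingCat.ofHom_comp, ← IsScalarTower.algebraMap_eq]]
  exact H8Props.FieldDim.fibreDimAt_openImmersion_comp j π w

/-- Fibre dimensions along a tower of algebras. -/
theorem fibreDimAt_tower_le {R A B : Type u} [CommRing R] [CommRing A] [CommRing B] [Algebra R A] [Algebra R B]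
    [Algebra A B] [IsScalarTower R A B] [Algebra.FiniteType R A] [Algebra.FiniteType A B]
    (w : Spec (CommRingCat.of B)) :
    FlatMor.fibreDimAt (Spec.map (CommRingCat.ofHom (algebraMap R B))) w ≤
      FlatMor.fibreDimAt (Spec.map (CommRingCat.ofHom (algebraMap A B))) w +
        FlatMor.fibreDimAt (Spec.map (CommRingCat.ofHom (algebraMap R A)))
          (Spec.map (CommRingCat.ofHom (algebraMap A B)) w) := by
  let g : Spec (CommRingCat.of B) ⟶ Spec (CommRingCat.of A) := Spec.map (CommRingCat.ofHom (algebraMap A B))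
  let π : Spec (CommRingCat.of A) ⟶ Spec (CommRingCat.of R) := Spec.map (CommRingCat.ofHom (algebraMap R A))
  haveI : LocallyOfFiniteType g :=
    (HasRingHomProperty.Spec_iff (P := @LocallyOfFiniteType)).mpr (RingHom.finiteType_algebraMap.mpr inferInstance)
  haveI : LocallyOfFiniteType π :=
    (HasRingHomProperty.Spec_iff (P := @LocallyOfFiniteType)).mpr (RingHom.finiteType_algebraMap.mpr inferInstance)
  rw [show Spec.map (CommRingCat.ofHom (algebraMap R B)) = g ≫ π by
    simp only [g, π]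
    rw [← Spec.map_comp, ← CommRingCat.ofHom_comp, ← IsScalarTower.algebraMap_eq]]
  exact (H8Props.FieldDim.fibreDimAt_comp_le g π w).1

/-- The fibre dimension of a presentation near a point with equations. -/
theorem fibreDimAt_of_equations {R : Type u} [CommRing R] {n c : ℕ} {I : Ideal (MvPolynomial (Fin n) R)}
    (F : Fin c → MvPolynomial (Fin n) R) (hF : ∀ i, F i ∈ I) (G : MvPolynomial (Fin n) R)
    (hG : ∀ z ∈ I, G * z ∈ Ideal.span (Set.range F))
    (hrel : Synt.IsRelGCI R (n + 1) (c + 1) (H9CI.awayEqs F G))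
    (q : Spec (CommRingCat.of (MvPolynomial (Fin n) R ⧸ I)))
    (hq : Ideal.Quotient.mk I G ∉ (q : PrimeSpectrum _).asIdeal) :
    c ≤ n ∧ FlatMor.fibreDimAt (Spec.map (CommRingCat.ofHom (algebraMap R (MvPolynomial (Fin n) R ⧸ I)))) q =
      ((n - c : ℕ) : WithBot ℕ∞) := by
  let S := MvPolynomial (Fin n) R ⧸ I
  let Q := Synt.RelGCIRing R (n + 1) (c + 1) (H9CI.awayEqs F G)
  let φ : MvPolynomial (Fin n) R →ₐ[R] S := Ideal.Quotient.mkₐ R I
  have hker : RingHom.ker φ.toRingHom = I := Ideal.mk_ker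
  obtain ⟨e₁⟩ := H9CI.nonempty_algEquiv_away_quotient φ Ideal.Quotient.mk_surjective (Ideal.span (Set.range F))
    (hker.symm ▸ Ideal.span_le.mpr (Set.range_subset_iff.mpr hF)) G
    (fun z hz => ⟨1, by rw [pow_one]; exact hG z (hker ▸ hz)⟩)
  obtain ⟨e₂⟩ := H9CI.nonempty_algEquiv_awayEqs F G
  let e : Localization.Away (Ideal.Quotient.mk I G) ≃ₐ[R] Q := e₁.trans e₂
  letI : Algebra S Q := (e.toRingHom.comp (algebraMap _ (Localization.Away (Ideal.Quotient.mk I G)))).toAlgebra
  haveI : IsLocalization.Away (Ideal.Quotient.mk I G) Q :=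
    IsLocalization.isLocalization_of_algEquiv (Submonoid.powers (Ideal.Quotient.mk I G))
      (AlgEquiv.ofRingEquiv (f := e.toRingEquiv) fun _ => rfl)
  haveI : IsScalarTower R S Q := IsScalarTower.of_algebraMap_eq (R := R) (S := S) (A := Q) fun r => by
    show _ = e (algebraMap S _ (algebraMap R S r))
    rw [← IsScalarTower.algebraMap_apply, e.commutes]
  obtain ⟨w, rfl⟩ : (q : PrimeSpectrum S) ∈ Set.range (PrimeSpectrum.comap (algebraMap S Q)) := by
    rw [PrimeSpectrum.localization_away_comap_range Q (Ideal.Quotient.mk I G)]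
    exact hq
  have h := (fibreDimAt_away (R := R) (Ideal.Quotient.mk I G) w).symm.trans (H9CI.fibreDimAt_relGCI _ hrel w)
  refine ⟨?_, by rwa [Nat.succ_sub_succ] at h⟩
  obtain ⟨Q', hQ', -⟩ := H9CI.exists_fibre_prime (R := R) (w : PrimeSpectrum Q).asIdeal
  haveI := hQ'
  let p : PrimeSpectrum R := PrimeSpectrum.comap (algebraMap R Q) w
  haveI : Nontrivial (p.asIdeal.Fiber Q) :=
    ⟨⟨0, 1, fun h01 => hQ'.ne_top ((Ideal.eq_top_iff_one _).mpr (h01 ▸ Q'.zero_mem))⟩⟩
  exact Nat.le_of_succ_le_succ (hrel p inferInstance).1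

/-- The fibre dimension of the symmetric algebra at a point where `c` linear forms generate. -/
theorem fibreDimAt_symI_le {S : Type u} [CommRing S] {m c : ℕ} (e : Fin m → Fin m → S) (h : S)
    (t : Fin c → SymI e) (b : Fin m → Fin c → S)
    (hb : ∀ j, h • Ideal.Quotient.mk (Ideal.span (Set.range (relE e))) (X j) = ∑ i, b j i • t i)
    (w : Spec (CommRingCat.of (SymI e))) (hw : algebraMap S (SymI e) h ∉ (w : PrimeSpectrum _).asIdeal) :
    FlatMor.fibreDimAt (Spec.map (CommRingCat.ofHom (algebraMap S (SymI e)))) w ≤ (c : WithBot ℕ∞) := by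
  let q := (w : PrimeSpectrum (SymI e)).asIdeal.comap (algebraMap S (SymI e))
  let κ := q.ResidueField
  obtain ⟨Q, hQp, hQ⟩ := H9CI.exists_fibre_prime (R := S) (w : PrimeSpectrum (SymI e)).asIdeal
  have hw' : w = PrimeSpectrum.comap
      (Algebra.TensorProduct.includeRight : SymI e →ₐ[S] κ ⊗[S] SymI e).toRingHom
      (⟨Q, hQp⟩ : PrimeSpectrum (κ ⊗[S] SymI e)) :=
    PrimeSpectrum.ext hQ.symm
  rw [hw']
  refine (H9CI.fibreDimAt_spec_eq_localDim (R := S) (A := SymI e) (κ := κ) ⟨Q, hQp⟩).trans_le ?_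
  refine (H28Top.localDim_le_dim _).trans ?_
  rw [PrimeSpectrum.topologicalKrullDim_eq_ringKrullDim]
  let ψ : MvPolynomial (Fin c) κ →ₐ[κ] κ ⊗[S] SymI e := aeval fun i => (1 : κ) ⊗ₜ[S] t i
  have hu : IsUnit (algebraMap S κ h) :=
    isUnit_iff_ne_zero.mpr fun h0 => hw (show h ∈ q from Ideal.algebraMap_residueField_eq_zero.mp h0)
  have hsmul : ∀ (a : S) (x : SymI e), (1 : κ) ⊗ₜ[S] (a • x) = algebraMap S κ a • ((1 : κ) ⊗ₜ[S] x) := fun a x => by
    rw [TensorProduct.tmul_smul, algebraMap_smul]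
  have hgen : ∀ j, (1 : κ) ⊗ₜ[S] Ideal.Quotient.mk (Ideal.span (Set.range (relE e))) (X j) ∈ ψ.range := fun j => by
    obtain ⟨v, hv⟩ := hu.exists_left_inv
    have h1 : algebraMap S κ h • ((1 : κ) ⊗ₜ[S] Ideal.Quotient.mk (Ideal.span (Set.range (relE e))) (X j)) ∈
        ψ.range := by
      rw [← hsmul, hb, TensorProduct.tmul_sum]
      refine sum_mem fun i _ => ?_
      rw [hsmul]
      exact ψ.range.smul_mem ⟨X i, by simp [ψ]⟩ _
    have h2 := ψ.range.smul_mem h1 v
    rwa [smul_smul, hv, one_smul] at h2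
  have hone : ∀ x : SymI e, (1 : κ) ⊗ₜ[S] x ∈ ψ.range := by
    intro x
    obtain ⟨z, rfl⟩ := Ideal.Quotient.mk_surjective x
    induction z using MvPolynomial.induction_on with
    | C a =>
      have : Ideal.Quotient.mk (Ideal.span (Set.range (relE e))) (C a) = a • (1 : SymI e) :=
        Algebra.algebraMap_eq_smul_one (A := SymI e) a
      rw [this, hsmul]
      exact ψ.range.smul_mem ψ.range.one_mem _
    | add p q hp hq => rw [map_add, TensorProduct.tmul_add]; exact add_mem hp hq
    | mul_X p i hp =>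
      rw [map_mul]
      have := mul_mem hp (hgen i)
      rwa [Algebra.TensorProduct.tmul_mul_tmul, one_mul] at this
  have hsurj : Function.Surjective ψ := fun z => by
    suffices z ∈ ψ.range from this
    induction z using TensorProduct.induction_on with
    | zero => exact zero_mem _
    | tmul a x =>
      have := ψ.range.smul_mem (hone x) a
      rwa [TensorProduct.smul_tmul', smul_eq_mul, mul_one] at this
    | add p q hp hq => exact add_mem hp hq
  refine (ringKrullDim_le_of_surjective ψ.toRingHom hsurj).trans (le_of_eq ?_)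
  rw [MvPolynomial.ringKrullDim_of_isNoetherianRing, ringKrullDim_eq_zero_of_field, zero_add]
  simp

variable {R : Type u} [CommRing R] {n : ℕ}

/-- A syntomic algebra with a presentation is a smooth retract of a relative global complete intersection. -/
theorem exists_relGCI_retract {I : Ideal (MvPolynomial (Fin n) R)} (hI : I.FG)
    (h : Synt.IsSyntomic R (MvPolynomial (Fin n) R ⧸ I)) :
    ∃ (N M : ℕ) (F : Fin M → MvPolynomial (Fin N) R), Synt.IsRelGCI R N M F ∧
      ∃ (θ : (MvPolynomial (Fin n) R ⧸ I) →ₐ[R] Synt.RelGCIRing R N M F)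
        (ρ : Synt.RelGCIRing R N M F →ₐ[R] (MvPolynomial (Fin n) R ⧸ I)),
        θ.toRingHom.Smooth ∧ ∀ s, ρ (θ s) = s := by
  classical
  let S := MvPolynomial (Fin n) R ⧸ I
  obtain ⟨m, f, E, hspan, hsplit, hidem, ι, hι⟩ := exists_splitting_matrix hI h
  let e := eBar I E
  let C := SymI e
  have he : ∀ k j, ∑ l, e k l * e l j = e k j := fun k j => by
    simp only [e, eBar, ← map_mul, ← map_sum]
    rw [Ideal.Quotient.eq]
    exact hidem k j
  haveI := smooth_symI e he
  -- the equations and the function `r`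
  let P' := MvPolynomial (Fin (n + m)) R
  let ψ := presSymI I E
  let J := RingHom.ker ψ.toRingHom
  let K := Ideal.span (Set.range (symEqs f E))
  have hKJ : K ≤ J := Ideal.span_le.mpr (Set.range_subset_iff.mpr (symEqs_mem I E f hspan))
  have hJfg : J.FG := by
    show (RingHom.ker (presSymI I E).toRingHom).FG
    rw [ker_presSymI]
    exact Submodule.FG.sup (hI.map _) (Submodule.fg_span (Set.finite_range _))
  obtain ⟨r, hr1, hr⟩ : ∃ r, r - 1 ∈ J ∧ ∀ z ∈ J, r * z ∈ K := by
    let T := P' ⧸ K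
    let Jb := J.map (Ideal.Quotient.mk K)
    have hle : Jb ≤ Jb • Jb := by
      refine (Ideal.map_mono (ker_le_span_sup_sq I E f hspan hsplit hidem)).trans ?_
      rw [Ideal.map_sup, Ideal.map_quotient_self, bot_sup_eq, Ideal.map_mul, smul_eq_mul]
    obtain ⟨r', hr', hr0⟩ := Submodule.exists_sub_one_mem_and_smul_eq_zero_of_fg_of_le_smul Jb Jb (hJfg.map _) hle
    obtain ⟨r, rfl⟩ := Ideal.Quotient.mk_surjective r'
    refine ⟨r, ?_, fun z hz => ?_⟩
    · rw [← map_one (Ideal.Quotient.mk K), ← map_sub, ← Ideal.mem_comap,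
        Ideal.comap_map_of_surjective _ Ideal.Quotient.mk_surjective, ← RingHom.ker_eq_comap_bot, Ideal.mk_ker,
        sup_eq_left.mpr hKJ] at hr'
      exact hr'
    · rw [← Ideal.Quotient.eq_zero_iff_mem, map_mul]
      exact hr0 _ (Ideal.mem_map_of_mem _ hz)
  have hψr : ψ r = 1 := by
    have h0 : ψ (r - 1) = 0 := hr1
    rwa [map_sub, map_one, sub_eq_zero] at h0
  -- the symmetric algebra as a principal open of the complete intersection
  let T := Synt.RelGCIRing R (n + m) m (symEqs f E)
  let φT : T →ₐ[R] C := Ideal.Quotient.liftₐ K ψ fun z hz => hKJ hz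
  letI : Algebra T C := φT.toRingHom.toAlgebra
  haveI : IsScalarTower R T C := IsScalarTower.of_algebraMap_eq fun x => (φT.commutes x).symm
  haveI : IsLocalization.Away (Ideal.Quotient.mk K r) C := by
    refine IsLocalization.Away.mk _ ?_ (fun t => ?_) (fun a b hab => ?_)
    · show IsUnit (ψ r)
      rw [hψr]
      exact isUnit_one
    · obtain ⟨a, rfl⟩ := presSymI_surjective I E t
      exact ⟨0, Ideal.Quotient.mk K a, by rw [pow_zero, mul_one]; rfl⟩
    · obtain ⟨a, rfl⟩ := Ideal.Quotient.mk_surjective a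
      obtain ⟨b, rfl⟩ := Ideal.Quotient.mk_surjective b
      refine ⟨1, ?_⟩
      rw [pow_one, ← map_mul, ← map_mul, Ideal.Quotient.eq, ← mul_sub]
      exact hr _ (RingHom.sub_mem_ker_iff _ |>.mpr hab)
  obtain ⟨e₂⟩ := H9CI.nonempty_algEquiv_awayEqs (symEqs f E) r
  let ΦC : C ≃ₐ[R] Synt.RelGCIRing R (n + m + 1) (m + 1) (H9CI.awayEqs (symEqs f E) r) :=
    ((IsLocalization.algEquiv (Submonoid.powers (Ideal.Quotient.mk K r)) C
      (Localization.Away (Ideal.Quotient.mk K r))).restrictScalars R).trans e₂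
  -- the dimension of the fibres
  have hrel : Synt.IsRelGCI R (n + m + 1) (m + 1) (H9CI.awayEqs (symEqs f E) r) := by
    refine H9CI.isRelGCI_awayEqs _ r fun x hx => ?_
    by_contra hxr
    obtain ⟨w, rfl⟩ : (x : PrimeSpectrum T) ∈ Set.range (PrimeSpectrum.comap (algebraMap T C)) := by
      rw [PrimeSpectrum.localization_away_comap_range C (Ideal.Quotient.mk K r)]
      exact hxr
    refine hx ⟨Nat.le_add_left m n, ?_⟩
    rw [Nat.add_sub_cancel]
    change FlatMor.fibreDimAt (Spec.map (CommRingCat.ofHom (algebraMap R T)))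
      (Spec.map (CommRingCat.ofHom (algebraMap T C)) w) ≤ _
    rw [← fibreDimAt_away (R := R) (A := T) (B := C) (Ideal.Quotient.mk K r) w]
    refine (fibreDimAt_tower_le (R := R) (A := S) (B := C) w).trans ?_
    obtain ⟨c, F, G, hG, hF, hGI, hrelF⟩ :=
      exists_equations_of_isSyntomic hI h (PrimeSpectrum.comap (algebraMap S C) w).asIdeal
    obtain ⟨hc, hdim⟩ := fibreDimAt_of_equations F hF G hGI hrelF
      (Spec.map (CommRingCat.ofHom (algebraMap S C)) w) hG
    rw [hdim]
    have hfI : ∀ j, f j ∈ I := fun j => hspan ▸ Ideal.subset_span ⟨j, rfl⟩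
    choose b hb using fun j => Ideal.mem_span_range_iff_exists_fun.mp (hGI _ (hfI j))
    have key : ∀ j l, Ideal.Quotient.mk I G * e l j =
        ∑ i, Ideal.Quotient.mk I (b j i) * ι (I.toCotangent ⟨F i, hF i⟩) l := fun j l => by
      have h1 : G • I.toCotangent ⟨f j, hfI j⟩ = ∑ i, b j i • I.toCotangent ⟨F i, hF i⟩ := by
        simp only [← map_smul, ← map_sum]
        exact congrArg _ (Subtype.ext (by simp [hb j]))
      have h2 := congrFun (congrArg ι h1) l
      have hsm : ∀ (z : MvPolynomial (Fin n) R) (x : S), z • x = Ideal.Quotient.mk I z * x :=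
        fun z x => Algebra.smul_def z x
      simp only [map_sum, map_smul, Finset.sum_apply, Pi.smul_apply, hι, hsm] at h2
      exact h2
    have hle := fibreDimAt_symI_le e (Ideal.Quotient.mk I G)
      (fun i => ∑ l, ι (I.toCotangent ⟨F i, hF i⟩) l • Ideal.Quotient.mk (Ideal.span (Set.range (relE e))) (X l))
      (fun j i => Ideal.Quotient.mk I (b j i)) (fun j => by
        have hsm : ∀ (a : MvPolynomial (Fin n) R ⧸ I) (x : SymI e),
            a • x = algebraMap (MvPolynomial (Fin n) R ⧸ I) (SymI e) a * x := fun a x => Algebra.smul_def a x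
        conv_lhs => rw [← symI_sum_eq e j]
        simp only [hsm, Finset.mul_sum, ← mul_assoc, ← map_mul, key, map_sum, Finset.sum_mul]
        exact Finset.sum_comm) w hG
    refine (add_le_add_left hle _).trans ?_
    rw [← Nat.cast_add, Nat.add_sub_cancel' hc]
  -- the section and the retraction
  let θ : S →ₐ[R] Synt.RelGCIRing R (n + m + 1) (m + 1) (H9CI.awayEqs (symEqs f E) r) :=
    ΦC.toAlgHom.comp (IsScalarTower.toAlgHom R S C)
  let ρ₀ : C →ₐ[S] S := Ideal.Quotient.liftₐ _ (aeval fun _ => (0 : S)) fun z hz => by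
    refine (Ideal.span_le.mpr ?_ : Ideal.span (Set.range (relE e)) ≤ RingHom.ker (aeval fun _ => (0 : S))) hz
    rintro _ ⟨j, rfl⟩
    simp [relE]
  refine ⟨_, _, _, hrel, θ, (ρ₀.restrictScalars R).comp ΦC.symm.toAlgHom, ?_, fun s => ?_⟩
  · exact ((RingHom.smooth_algebraMap.mpr inferInstance) : (algebraMap S C).Smooth).comp
      (RingHom.Smooth.of_bijective (f := ΦC.toAlgHom.toRingHom) ΦC.bijective)
  · show ρ₀ (ΦC.symm (ΦC (algebraMap S C s))) = s
    rw [ΦC.symm_apply_apply, ρ₀.commutes]
    rfl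

/-- A syntomic algebra is a smooth retract of a relative global complete intersection. -/
theorem exists_smooth_retract_relGCI {R A : Type u} [CommRing R] [CommRing A] [Algebra R A]
    (h : Synt.IsSyntomic R A) :
    ∃ (n c : ℕ) (F : Fin c → MvPolynomial (Fin n) R), Synt.IsRelGCI R n c F ∧
      Module.Flat R (Synt.RelGCIRing R n c F) ∧
      ∃ (_ : Algebra A (Synt.RelGCIRing R n c F)) (_ : IsScalarTower R A (Synt.RelGCIRing R n c F)),
        Algebra.Smooth A (Synt.RelGCIRing R n c F) ∧
        ∃ ρ : Synt.RelGCIRing R n c F →ₐ[R] A, ∀ a : A, ρ (algebraMap A (Synt.RelGCIRing R n c F) a) = a := by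
  haveI := h.2.1
  obtain ⟨n₀, φ, hφ, hfg⟩ := Algebra.FinitePresentation.out (R := R) (A := A)
  let e : (MvPolynomial (Fin n₀) R ⧸ RingHom.ker φ.toRingHom) ≃ₐ[R] A :=
    Ideal.quotientKerAlgEquivOfSurjective hφ
  obtain ⟨N, M, F, hF, θ, ρ, hθ, hρ⟩ := exists_relGCI_retract hfg (isSyntomic_of_algEquiv e.symm h)
  let θA : A →ₐ[R] Synt.RelGCIRing R N M F := θ.comp e.symm.toAlgHom
  letI iA : Algebra A (Synt.RelGCIRing R N M F) := θA.toRingHom.toAlgebra
  refine ⟨N, M, F, hF, H9CI.flat_relGCIRing F hF, iA, IsScalarTower.of_algebraMap_eq fun x => (θA.commutes x).symm,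
    RingHom.smooth_algebraMap.mp ?_, e.toAlgHom.comp ρ, fun a => ?_⟩
  · exact (RingHom.Smooth.of_bijective (f := e.symm.toAlgHom.toRingHom) e.symm.bijective).comp hθ
  · show e (ρ (θ (e.symm a))) = a
    rw [hρ, e.apply_symm_apply]

end Groth.Agent.H9Synt
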