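import Groth.Agent.H9Synt.SectionEqs
import Groth.Agent.H9Synt.SyntomicRetractMain
import Groth.Agent.H9CI.Comp
import Groth.Agent.H9Smooth.Lift
import Groth.Agent.H9Synt.Smooth

/-!
# Syntomic algebras lift along surjections of base rings
-/

set_option linter.style.haveILetI false

universe u

open MvPolynomial CategoryTheory AlgebraicGeometry TrivSqZeroExt

set_option maxHeartbeats 400000

namespace Groth.Agent.H9Synt

variable {R : Type u} [CommRing R] {I : Ideal R}

/-- Inverting an element killing the excess kernel gives a reduction with kernel generated by `I`. -/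
theorem exists_away_mul {T B₀ : Type u} [CommRing T] [Algebra R T] [CommRing B₀] [Algebra R B₀]
    (I : Ideal R) (π : T →ₐ[R] B₀) (hsur : Function.Surjective π) (δ : T) (hδ : π δ = 1)
    (hker : ∀ x, π x = 0 → δ * x ∈ I.map (algebraMap R T)) :
    ∃ π' : Localization.Away δ →ₐ[R] B₀, (∀ t, π' (algebraMap T _ t) = π t) ∧
      Function.Surjective π' ∧ ∀ x, π' x = 0 → x ∈ I.map (algebraMap R (Localization.Away δ)) := by
  let π' : Localization.Away δ →ₐ[R] B₀ := IsLocalization.liftAlgHom (M := Submonoid.powers δ) (f := π) (by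
    rintro ⟨_, j, rfl⟩; show IsUnit (π (δ ^ j)); rw [map_pow, hδ, one_pow]; exact isUnit_one)
  have h : ∀ t, π' (algebraMap T _ t) = π t := fun t => IsLocalization.lift_eq _ _
  refine ⟨π', h, fun b => ?_, fun x hx => ?_⟩
  · obtain ⟨t, rfl⟩ := hsur b
    exact ⟨_, h t⟩
  · obtain ⟨⟨t, ⟨_, j, rfl⟩⟩, ht⟩ := IsLocalization.surj (Submonoid.powers δ) x
    change x * algebraMap T _ (δ ^ j) = algebraMap T _ t at ht
    have h1 : π t = 0 := by
      have := congrArg π' ht
      rw [map_mul, hx, zero_mul, h] at this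
      exact this.symm
    have h2 := Ideal.mem_map_of_mem (algebraMap T (Localization.Away δ)) (hker t h1)
    rw [Ideal.map_map, ← IsScalarTower.algebraMap_eq, map_mul, ← ht, map_pow] at h2
    exact (Ideal.mul_unit_mem_iff_mem _ ((IsLocalization.Away.algebraMap_isUnit δ).pow j)).mp
      ((Ideal.unit_mul_mem_iff_mem _ (IsLocalization.Away.algebraMap_isUnit δ)).mp h2)

/-- Fibre dimensions through common principal opens. -/
theorem fibreDimAt_two_away {T B M Br : Type u} [CommRing T] [CommRing B] [CommRing M] [CommRing Br] [Algebra R T]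
    [Algebra R B] [Algebra R M] [Algebra R Br] [Algebra T M] [Algebra B M] [Algebra B Br] [IsScalarTower R T M]
    [IsScalarTower R B M] [IsScalarTower R B Br] [Algebra.FiniteType R T] [Algebra.FiniteType R B] (a : T) (b c : B)
    [IsLocalization.Away a M] [IsLocalization.Away b M] [IsLocalization.Away c Br]
    (w : PrimeSpectrum M) (v : PrimeSpectrum Br)
    (hwv : PrimeSpectrum.comap (algebraMap B M) w = PrimeSpectrum.comap (algebraMap B Br) v) :
    FlatMor.fibreDimAt (Spec.map (CommRingCat.ofHom (algebraMap R T))) (PrimeSpectrum.comap (algebraMap T M) w) =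
      FlatMor.fibreDimAt (Spec.map (CommRingCat.ofHom (algebraMap R Br))) v :=
  (fibreDimAt_away (R := R) a w).symm.trans ((fibreDimAt_away (R := R) b w).trans
    ((congrArg (FlatMor.fibreDimAt (Spec.map (CommRingCat.ofHom (algebraMap R B)))) hwv).trans
      (fibreDimAt_away (R := R) c v).symm))

/-- An element vanishing on a closed set and equal to one modulo an ideal without common points. -/
theorem exists_mem_vanishingIdeal_add_eq_one {T : Type u} [CommRing T] (J : Ideal T)
    (Z : Set (PrimeSpectrum T)) (hZ : IsClosed Z) (h : ∀ x ∈ Z, ¬ J ≤ x.asIdeal) :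
    ∃ a ∈ PrimeSpectrum.vanishingIdeal Z, ∃ i ∈ J, a + i = 1 := by
  refine Submodule.mem_sup.mp ((Ideal.eq_top_iff_one _).mp (by_contra fun hne => ?_))
  obtain ⟨M, hM, hle⟩ := Ideal.exists_le_maximal _ hne
  have hmem : (⟨M, hM.isPrime⟩ : PrimeSpectrum T) ∈ closure Z := by
    rw [← PrimeSpectrum.zeroLocus_vanishingIdeal_eq_closure]
    exact fun a ha => hle (Ideal.mem_sup_left ha)
  rw [hZ.closure_eq] at hmem
  exact h _ hmem fun a ha => hle (Ideal.mem_sup_right ha)

/-- Relative global complete intersections lift to syntomic algebras. -/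
theorem exists_lift_relGCI {n c : ℕ} (F₀ : Fin c → MvPolynomial (Fin n) (R ⧸ I))
    (hF₀ : Synt.IsRelGCI (R ⧸ I) n c F₀) :
    ∃ (C : Type u) (_ : CommRing C) (_ : Algebra R C),
      Synt.IsSyntomic R C ∧ ∃ π : C →ₐ[R] Synt.RelGCIRing (R ⧸ I) n c F₀,
        Function.Surjective π ∧ ∀ x, π x = 0 → x ∈ I.map (algebraMap R C) := by
  classical
  let red : MvPolynomial (Fin n) R →ₐ[R] MvPolynomial (Fin n) (R ⧸ I) :=
    MvPolynomial.mapAlgHom (Ideal.Quotient.mkₐ R I)
  have hred : Function.Surjective red := MvPolynomial.map_surjective _ Ideal.Quotient.mk_surjective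
  choose F hF using fun j => hred (F₀ j)
  let T := Synt.RelGCIRing R n c F
  let C₀ := Synt.RelGCIRing (R ⧸ I) n c F₀
  let π₀ : T →ₐ[R] C₀ := Ideal.Quotient.liftₐ _ ((Ideal.Quotient.mkₐ R _).comp red) fun z hz => by
    refine (Ideal.span_le.mpr ?_ : Ideal.span (Set.range F) ≤ RingHom.ker ((Ideal.Quotient.mkₐ R _).comp red).toRingHom) hz
    rintro _ ⟨j, rfl⟩
    show Ideal.Quotient.mk (Ideal.span (Set.range F₀)) (red (F j)) = 0
    rw [hF]
    exact Ideal.Quotient.eq_zero_iff_mem.mpr (Ideal.subset_span ⟨j, rfl⟩)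
  have hπ₀ : Function.Surjective π₀ := fun x => by
    obtain ⟨z, rfl⟩ := Ideal.Quotient.mk_surjective x
    obtain ⟨w, rfl⟩ := hred z
    exact ⟨Ideal.Quotient.mk _ w, rfl⟩
  have hker : ∀ x, π₀ x = 0 → x ∈ I.map (algebraMap R T) := fun x hx => by
    obtain ⟨p, rfl⟩ := Ideal.Quotient.mk_surjective x
    have h2 : red p ∈ Ideal.span (Set.range F₀) := Ideal.Quotient.eq_zero_iff_mem.mp hx
    rw [show Set.range F₀ = red '' Set.range F by
      rw [← Set.range_comp]; exact congrArg Set.range (funext fun j => (hF j).symm), ← Ideal.map_span,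
      Ideal.mem_map_iff_of_surjective _ hred] at h2
    obtain ⟨p', hp', hpp⟩ := h2
    have h3 : p - p' ∈ I.map (algebraMap R (MvPolynomial (Fin n) R)) := by
      have : p - p' ∈ RingHom.ker (MvPolynomial.map (σ := Fin n) (Ideal.Quotient.mk I)) := by
        show red (p - p') = 0
        rw [map_sub, hpp, sub_self]
      rwa [MvPolynomial.ker_map, Ideal.mk_ker] at this
    have h4 := Ideal.mem_map_of_mem (Ideal.Quotient.mk (Ideal.span (Set.range F))) h3
    rw [Ideal.map_map, map_sub, Ideal.Quotient.eq_zero_iff_mem.mpr hp', sub_zero] at h4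
    exact h4
  have hbad : ∀ x ∈ H9CI.badLocus F, ¬ I.map (algebraMap R T) ≤ (x : PrimeSpectrum T).asIdeal := by
    intro x hx hIx
    obtain ⟨x₀, rfl⟩ : (x : PrimeSpectrum T) ∈ Set.range (PrimeSpectrum.comap π₀.toRingHom) := by
      rw [_root_.range_comap_of_surjective _ _ hπ₀]
      exact fun a ha => hIx (hker a ha)
    have hdim := (H9CI.fibreDimAt_of_surjective (R := R) (R₀ := R ⧸ I) Ideal.Quotient.mk_surjective π₀ hπ₀
      (fun z hz => by rw [Ideal.Quotient.algebraMap_eq, Ideal.mk_ker]; exact hker z hz) x₀).trans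
        (H9CI.fibreDimAt_relGCI F₀ hF₀ x₀)
    obtain ⟨Q', hQ', -⟩ := H9CI.exists_fibre_prime (R := R ⧸ I) (x₀ : PrimeSpectrum C₀).asIdeal
    let p : PrimeSpectrum (R ⧸ I) := PrimeSpectrum.comap (algebraMap (R ⧸ I) C₀) x₀
    haveI : Nontrivial (p.asIdeal.Fiber C₀) :=
      ⟨⟨0, 1, fun h01 => hQ'.ne_top ((Ideal.eq_top_iff_one _).mpr (h01 ▸ Q'.zero_mem))⟩⟩
    exact hx ⟨(hF₀ p inferInstance).1, hdim.le⟩
  obtain ⟨a, ha, i, hi, hai⟩ :=
    exists_mem_vanishingIdeal_add_eq_one _ _ (H9CI.isClosed_badLocus F) hbad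
  obtain ⟨h, rfl⟩ := Ideal.Quotient.mk_surjective a
  have hπi : π₀ i = 0 := by
    refine (Ideal.map_le_iff_le_comap.mpr fun r hr => ?_ : I.map (algebraMap R T) ≤ RingHom.ker π₀.toRingHom) hi
    show π₀ (algebraMap R T r) = 0
    rw [π₀.commutes, IsScalarTower.algebraMap_apply R (R ⧸ I) C₀, Ideal.Quotient.algebraMap_eq,
      Ideal.Quotient.eq_zero_iff_mem.mpr hr, map_zero]
  have hπh : π₀ (Ideal.Quotient.mk _ h) = 1 := by
    have := congrArg π₀ hai
    rwa [map_add, hπi, add_zero, map_one] at this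
  obtain ⟨π', -, hπ's, hπ'k⟩ := H9Smooth.exists_away I π₀ hπ₀ hker _ hπh
  obtain ⟨e⟩ := H9CI.nonempty_algEquiv_awayEqs F h
  exact ⟨_, inferInstance, inferInstance, isSyntomic_of_algEquiv e.symm (H9CI.isSyntomic_relGCIRing _
    (H9CI.isRelGCI_awayEqs F h fun x hx => (PrimeSpectrum.mem_vanishingIdeal _ _).mp ha x hx)), π', hπ's, hπ'k⟩

/-- The syntomic lift cut out of a lifted presentation of a section of a smooth algebra. -/
theorem exists_lift_of_section_aux {A₀ D₀ : Type u} [CommRing A₀] [Algebra (R ⧸ I) A₀] [Algebra R A₀]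
    [IsScalarTower R (R ⧸ I) A₀] [CommRing D₀] [Algebra (R ⧸ I) D₀] [Algebra R D₀]
    [IsScalarTower R (R ⧸ I) D₀] [Algebra A₀ D₀] [IsScalarTower (R ⧸ I) A₀ D₀] [Algebra.Smooth A₀ D₀]
    [Algebra.FinitePresentation (R ⧸ I) A₀]
    {m : ℕ} (g : Fin m → D₀) (Λ : D₀ →ₐ[A₀] TrivSqZeroExt A₀ (Fin m → A₀))
    (hΛg : ∀ j, Λ (g j) = inr (Pi.single j 1)) (r : D₀) (hr1 : (Λ r).fst = 1)
    (hr : ∀ x, (Λ x).fst = 0 → r * x ∈ Ideal.span (Set.range g))
    {N : ℕ} {K : Ideal (MvPolynomial (Fin N) R)} (hK : K.FG)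
    (hS : Synt.IsSyntomic R (MvPolynomial (Fin N) R ⧸ K))
    (π : (MvPolynomial (Fin N) R ⧸ K) →ₐ[R] D₀) (hπ : Function.Surjective π)
    (hπk : ∀ x, π x = 0 → x ∈ I.map (algebraMap R (MvPolynomial (Fin N) R ⧸ K)))
    (gt : Fin m → MvPolynomial (Fin N) R ⧸ K) (hgt : ∀ j, π (gt j) = g j)
    {B : Type u} [CommRing B] [Algebra R B] (ν : (MvPolynomial (Fin N) R ⧸ K) →ₐ[R] B)
    (hν : Function.Surjective ν) (hνk : RingHom.ker ν.toRingHom = Ideal.span (Set.range gt)) :
    ∃ (A : Type u) (_ : CommRing A) (_ : Algebra R A), Synt.IsSyntomic R A ∧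
      ∃ πA : A →ₐ[R] A₀, Function.Surjective πA ∧ ∀ x, πA x = 0 → x ∈ I.map (algebraMap R A) := by
  classical
  let S := MvPolynomial (Fin N) R ⧸ K
  obtain ⟨rt, hrt⟩ := hπ r
  let L := Ideal.span (Set.range gt)
  have hL : ∀ {z}, ν z = 0 ↔ z ∈ L := fun {z} => SetLike.ext_iff.mp hνk z
  haveI : IsScalarTower R A₀ D₀ := IsScalarTower.of_algebraMap_eq fun x => by
    rw [IsScalarTower.algebraMap_apply R (R ⧸ I) A₀, ← IsScalarTower.algebraMap_apply (R ⧸ I) A₀ D₀,
      ← IsScalarTower.algebraMap_apply R (R ⧸ I) D₀]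
  let ρ₀ : D₀ →ₐ[R] A₀ := ((TrivSqZeroExt.fstHom A₀ A₀ (Fin m → A₀)).comp Λ).restrictScalars R
  have hρ₀ : ∀ a, ρ₀ (algebraMap A₀ D₀ a) = a := fun a =>
    ((TrivSqZeroExt.fstHom A₀ A₀ (Fin m → A₀)).comp Λ).commutes a
  have hρπ : ∀ z ∈ L, ρ₀ (π z) = 0 := fun z hz => by
    refine (Ideal.span_le.mpr ?_ : L ≤ RingHom.ker (ρ₀.comp π).toRingHom) hz
    rintro _ ⟨j, rfl⟩
    show (Λ (π (gt j))).fst = 0
    rw [hgt, hΛg, fst_inr]
  let πB : B →ₐ[R] A₀ :=
    AlgHom.liftOfSurjective ν hν (ρ₀.comp π) fun z hz => hρπ z (hL.mp hz)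
  have hπBν : ∀ z, πB (ν z) = ρ₀ (π z) := fun z =>
    DFunLike.congr_fun (AlgHom.liftOfSurjective_comp ν hν (ρ₀.comp π) fun z hz => hρπ z (hL.mp hz)) z
  have hπB : Function.Surjective πB := fun a => by
    obtain ⟨s, hs⟩ := hπ (algebraMap A₀ D₀ a)
    exact ⟨ν s, by rw [hπBν, hs, hρ₀]⟩
  let rb : B := ν rt
  have hrb : πB rb = 1 := (hπBν rt).trans (by show (Λ (π rt)).fst = 1; rw [hrt, hr1])
  let J := I.map (algebraMap R B)
  have hkB : ∀ x, πB x = 0 → rb * x ∈ J := fun x hx => by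
    obtain ⟨y, rfl⟩ := hν x
    rw [hπBν] at hx
    have h1 : r * π y ∈ Ideal.span (Set.range g) := hr _ hx
    rw [show Set.range g = π '' Set.range gt by
      rw [← Set.range_comp]; exact congrArg Set.range (funext fun j => (hgt j).symm), ← Ideal.map_span,
      Ideal.mem_map_iff_of_surjective _ hπ] at h1
    obtain ⟨u, hu, huy⟩ := h1
    have h2 := Ideal.mem_map_of_mem ν.toRingHom (hπk (rt * y - u) (by
      rw [map_sub, map_mul, hrt, huy, sub_self]))
    rw [Ideal.map_map, show ν.toRingHom.comp (algebraMap R _) = algebraMap R B from RingHom.ext fun a => ν.commutes a]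
      at h2
    have h3 : ν (rt * y - u) ∈ J := h2
    rwa [map_sub, hL.mpr hu, sub_zero, map_mul] at h3
  have hJ : J ≤ RingHom.ker πB.toRingHom := Ideal.map_le_iff_le_comap.mpr fun x hx => by
    show πB (algebraMap R B x) = 0
    rw [πB.commutes, IsScalarTower.algebraMap_apply R (R ⧸ I) A₀, Ideal.Quotient.algebraMap_eq,
      Ideal.Quotient.eq_zero_iff_mem.mpr hx, map_zero]
  obtain ⟨πr, hπr, hπrs, hπrk⟩ := exists_away_mul I πB hπB rb hrb hkB
  haveI : Algebra.FinitePresentation A₀ D₀ := inferInstance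
  haveI : Algebra.FinitePresentation (R ⧸ I) D₀ := Algebra.FinitePresentation.trans (R ⧸ I) A₀ D₀
  -- the points over `I` are points of syntomicity
  have key : ∀ q : PrimeSpectrum B, J ≤ q.asIdeal → rb ∉ q.asIdeal →
      ∃ k ∉ q.asIdeal, Synt.IsSyntomic R (Localization.Away k) := by
    intro q hIq hrq
    obtain ⟨q₀, rfl⟩ : q ∈ Set.range (PrimeSpectrum.comap πB.toRingHom) := by
      rw [_root_.range_comap_of_surjective _ _ hπB]
      exact fun x hx => (q.isPrime.mem_or_mem (hIq (hkB x hx))).resolve_left hrq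
    let q₀' : Spec (CommRingCat.of A₀) := q₀
    let s₀ : Spec (CommRingCat.of D₀) :=
      PrimeSpectrum.comap ((TrivSqZeroExt.fstHom A₀ A₀ (Fin m → A₀)).comp Λ).toRingHom q₀
    let qS : Spec (CommRingCat.of S) := PrimeSpectrum.comap π.toRingHom s₀
    -- fibre dimensions
    let fD := Spec.map (CommRingCat.ofHom (algebraMap A₀ D₀))
    let fA := Spec.map (CommRingCat.ofHom (algebraMap (R ⧸ I) A₀))
    haveI : Algebra.FiniteType (R ⧸ I) A₀ := inferInstance
    haveI : LocallyOfFiniteType fA :=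
      (HasRingHomProperty.Spec_iff (P := @LocallyOfFiniteType)).mpr (RingHom.finiteType_algebraMap.mpr inferInstance)
    haveI : LocallyOfFiniteType fD :=
      (HasRingHomProperty.Spec_iff (P := @LocallyOfFiniteType)).mpr (RingHom.finiteType_algebraMap.mpr inferInstance)
    haveI : Module.Flat A₀ D₀ := (isSyntomic_of_smooth A₀ D₀).1
    haveI : Flat fD := (HasRingHomProperty.Spec_iff (P := @Flat)).mpr (RingHom.flat_algebraMap_iff.mpr inferInstance)
    have hs₀ : fD s₀ = q₀' := PrimeSpectrum.ext (Ideal.ext fun a => by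
      show (Λ (algebraMap A₀ D₀ a)).fst ∈ q₀.asIdeal ↔ a ∈ q₀.asIdeal
      rw [show (Λ (algebraMap A₀ D₀ a)).fst = a from hρ₀ a])
    obtain ⟨e₀, he₀⟩ : ∃ e₀ : ℕ, FlatMor.fibreDimAt fA q₀' = e₀ := by
      exact @H8Props.FieldDim.exists_nat_localDim _ _ _ (fA.fiberToSpecResidueField (fA q₀'))
        (H8Props.FieldDim.locallyOfFiniteType_fiberToSpec fA _) (fA.asFiber q₀')
    have hm := le_fibreDimAt_section Λ g hΛg q₀'
    have hsum := (H8Props.FieldDim.fibreDimAt_comp_le fD fA s₀).2 (Flat.stalkMap fD s₀)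
    rw [hs₀, he₀] at hsum
    have hDdim : FlatMor.fibreDimAt (Spec.map (CommRingCat.ofHom (algebraMap R S))) qS =
        FlatMor.fibreDimAt fD s₀ + (e₀ : WithBot ℕ∞) := by
      rw [← hsum, show fD ≫ fA = Spec.map (CommRingCat.ofHom (algebraMap (R ⧸ I) D₀)) by
        simp only [fD, fA]
        rw [← Spec.map_comp, ← CommRingCat.ofHom_comp, ← IsScalarTower.algebraMap_eq]]
      exact H9CI.fibreDimAt_of_surjective (R₀ := R ⧸ I) Ideal.Quotient.mk_surjective π hπ
        (fun z hz => by rw [Ideal.Quotient.algebraMap_eq, Ideal.mk_ker]; exact hπk z hz) s₀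
    obtain ⟨c, F, G, hG, hF, hGK, hrelF⟩ := exists_equations_of_isSyntomic hK hS (qS : PrimeSpectrum S).asIdeal
    obtain ⟨hcN, hdim⟩ := fibreDimAt_of_equations F hF G hGK hrelF qS hG
    have hnum : c + m ≤ N ∧ e₀ ≤ N - (c + m) := by
      have h1 : ((m + e₀ : ℕ) : WithBot ℕ∞) ≤ ((N - c : ℕ) : WithBot ℕ∞) := by
        rw [← hdim, hDdim, Nat.cast_add]
        gcongr
      have h2 : m + e₀ ≤ N - c := by exact_mod_cast h1
      omega
    -- the equations of `B`
    choose Gt hGt using fun j => Ideal.Quotient.mk_surjective (gt j)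
    let H : Fin (c + m) → MvPolynomial (Fin N) R := Fin.append F Gt
    let φB : MvPolynomial (Fin N) R →ₐ[R] B := ν.comp (Ideal.Quotient.mkₐ R K)
    have hφB : Function.Surjective φB := hν.comp (Ideal.Quotient.mkₐ_surjective R K)
    have hHle : Ideal.span (Set.range H) ≤ RingHom.ker φB.toRingHom := by
      rw [Ideal.span_le]
      rintro _ ⟨j, rfl⟩
      induction j using Fin.addCases with
      | left i =>
        show ν (Ideal.Quotient.mk K (Fin.append F Gt (Fin.castAdd m i))) = 0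
        rw [Fin.append_left, Ideal.Quotient.eq_zero_iff_mem.mpr (hF i), map_zero]
      | right i =>
        show ν (Ideal.Quotient.mk K (Fin.append F Gt (Fin.natAdd c i))) = 0
        rw [Fin.append_right, hGt]
        exact hL.mpr (Ideal.subset_span ⟨i, rfl⟩)
    have hGker : ∀ z ∈ RingHom.ker φB.toRingHom, G * z ∈ Ideal.span (Set.range H) := fun z hz => by
      have h1 : Ideal.Quotient.mk K z ∈ L := hL.mp hz
      rw [show L = (Ideal.span (Set.range Gt)).map (Ideal.Quotient.mk K) by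
        rw [Ideal.map_span, ← Set.range_comp]
        exact congrArg Ideal.span (congrArg Set.range (funext fun j => (hGt j).symm)),
        ← Ideal.mem_comap, Ideal.comap_map_of_surjective _ Ideal.Quotient.mk_surjective, ← RingHom.ker_eq_comap_bot,
        Ideal.mk_ker] at h1
      obtain ⟨u, hu, v, hv, rfl⟩ := Submodule.mem_sup.mp h1
      rw [mul_add]
      refine add_mem (Ideal.mul_mem_left _ _ ?_) ?_
      · refine Ideal.span_mono ?_ hu
        rintro _ ⟨j, rfl⟩
        exact ⟨Fin.natAdd c j, Fin.append_right ..⟩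
      · refine Ideal.span_mono ?_ (hGK v hv)
        rintro _ ⟨j, rfl⟩
        exact ⟨Fin.castAdd m j, Fin.append_left ..⟩
    let T := Synt.RelGCIRing R N (c + m) H
    let τ : T →ₐ[R] B := Ideal.Quotient.liftₐ _ φB fun z hz => hHle hz
    let M := Localization.Away (φB G)
    letI : Algebra T M := ((algebraMap B M).comp τ.toRingHom).toAlgebra
    haveI : IsScalarTower R T M := IsScalarTower.of_algebraMap_eq (R := R) (S := T) (A := M) fun x => by
      show _ = algebraMap B M (τ (algebraMap R T x))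
      rw [τ.commutes, ← IsScalarTower.algebraMap_apply]
    haveI : IsLocalization.Away (Ideal.Quotient.mk (Ideal.span (Set.range H)) G) M := by
      refine IsLocalization.Away.mk _ ?_ (fun t => ?_) (fun a b hab => ?_)
      · exact IsLocalization.Away.algebraMap_isUnit (S := M) (φB G)
      · obtain ⟨i, a, ha⟩ := IsLocalization.Away.surj (φB G) t
        obtain ⟨a, rfl⟩ := hφB a
        exact ⟨i, Ideal.Quotient.mk _ a, ha⟩
      · obtain ⟨a, rfl⟩ := Ideal.Quotient.mk_surjective a
        obtain ⟨b, rfl⟩ := Ideal.Quotient.mk_surjective b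
        obtain ⟨i, hi⟩ := IsLocalization.Away.exists_of_eq (S := M) (φB G) hab
        refine ⟨i + 1, ?_⟩
        rw [← map_pow, ← map_mul, ← map_mul, Ideal.Quotient.eq, ← mul_sub, pow_succ', mul_assoc]
        refine hGker _ ?_
        show φB (G ^ i * (a - b)) = 0
        rw [map_mul, map_pow, map_sub, mul_sub, sub_eq_zero]
        exact hi
    have hGq : φB G ∉ (PrimeSpectrum.comap πB.toRingHom q₀).asIdeal := fun h => hG (by
      have h' : πB (ν (Ideal.Quotient.mk K G)) ∈ q₀.asIdeal := h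
      rwa [hπBν] at h')
    obtain ⟨w, hw⟩ : PrimeSpectrum.comap πB.toRingHom q₀ ∈
        Set.range (PrimeSpectrum.comap (algebraMap B M)) := by
      rw [PrimeSpectrum.localization_away_comap_range M (φB G)]
      exact hGq
    let x : Spec (CommRingCat.of T) := PrimeSpectrum.comap (algebraMap T M) w
    have hxdim : FlatMor.fibreDimAt (H9CI.presMap H) x = (e₀ : WithBot ℕ∞) := by
      let Br := Localization.Away rb
      let v : Spec (CommRingCat.of Br) := PrimeSpectrum.comap πr.toRingHom q₀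
      have hv : PrimeSpectrum.comap (algebraMap B Br) v = PrimeSpectrum.comap πB.toRingHom q₀ :=
        PrimeSpectrum.ext (Ideal.ext fun t => by
          show πr (algebraMap B Br t) ∈ q₀.asIdeal ↔ πB t ∈ q₀.asIdeal
          rw [hπr])
      haveI : Algebra.FiniteType R B := Algebra.FiniteType.of_surjective φB hφB
      haveI : Algebra.FiniteType B Br := inferInstance
      haveI : Algebra.FiniteType R Br := Algebra.FiniteType.trans inferInstance (inferInstance : Algebra.FiniteType B Br)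
      have h4 := H9CI.fibreDimAt_of_surjective (R := R) (R₀ := R ⧸ I) Ideal.Quotient.mk_surjective πr hπrs
        (fun z hz => by rw [Ideal.Quotient.algebraMap_eq, Ideal.mk_ker]; exact hπrk z hz) q₀'
      exact (fibreDimAt_two_away (R := R) (T := T) (Ideal.Quotient.mk (Ideal.span (Set.range H)) G) (φB G) rb w v
        (hw.trans hv.symm)).trans (h4.trans he₀)
    have hxbad : x ∉ H9CI.badLocus H := fun hb => hb ⟨hnum.1, by rw [hxdim]; exact_mod_cast hnum.2⟩
    obtain ⟨k, hk, hkx⟩ : ∃ k ∈ PrimeSpectrum.vanishingIdeal (H9CI.badLocus H), k ∉ (x : PrimeSpectrum T).asIdeal := by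
      by_contra! hall
      refine hxbad ?_
      have h1 : (x : PrimeSpectrum T) ∈ closure (X := PrimeSpectrum T) (H9CI.badLocus H) := by
        rw [← PrimeSpectrum.zeroLocus_vanishingIdeal_eq_closure]
        exact fun a ha => hall a ha
      exact (H9CI.isClosed_badLocus H).closure_eq.subset h1
    obtain ⟨k, rfl⟩ := Ideal.Quotient.mk_surjective k
    refine ⟨φB (k * G), fun hmem => ?_, ?_⟩
    · rw [map_mul] at hmem
      rcases (PrimeSpectrum.comap πB.toRingHom q₀).isPrime.mem_or_mem hmem with h | h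
      · refine hkx ?_
        show φB k ∈ (PrimeSpectrum.comap (algebraMap B M) w).asIdeal
        rwa [hw]
      · exact hGq h
    · obtain ⟨e₁⟩ := H9CI.nonempty_algEquiv_away_quotient φB hφB (Ideal.span (Set.range H)) hHle (k * G)
        fun z hz => ⟨1, by rw [pow_one, mul_assoc]; exact Ideal.mul_mem_left _ _ (hGker z hz)⟩
      obtain ⟨e₂⟩ := H9CI.nonempty_algEquiv_awayEqs H (k * G)
      exact isSyntomic_of_algEquiv (e₁.trans e₂).symm (H9CI.isSyntomic_relGCIRing _
        (H9CI.isRelGCI_awayEqs H _ fun y hy => by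
          rw [map_mul]
          exact Ideal.mul_mem_right _ _ ((PrimeSpectrum.mem_vanishingIdeal _ _).mp hk y hy)))
  -- the principal open
  let good : Set B := {k | Synt.IsSyntomic R (Localization.Away k)}
  have hrad : rb ∈ (Ideal.span good ⊔ J).radical := by
    rw [Ideal.radical_eq_sInf, Submodule.mem_sInf]
    rintro P ⟨hP, hPp⟩
    by_contra hrP
    obtain ⟨k, hk, hks⟩ := key ⟨P, hPp⟩ (le_sup_right.trans hP) hrP
    exact hk (hP (Ideal.mem_sup_left (Ideal.subset_span hks)))
  obtain ⟨j, hj⟩ := hrad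
  obtain ⟨a, ha, i, hi, hai⟩ := Submodule.mem_sup.mp hj
  let s := a * rb
  have hπs : πB s = 1 := by
    have h1 : πB (a + i) = 1 := by rw [hai, map_pow, hrb, one_pow]
    rw [map_add, show πB i = 0 from hJ hi, add_zero] at h1
    rw [map_mul, h1, hrb, one_mul]
  obtain ⟨πA, -, hπAs, hπAk⟩ := exists_away_mul I πB hπB s hπs fun x hx => by
    rw [mul_assoc]
    exact Ideal.mul_mem_left _ _ (hkB x hx)
  refine ⟨Localization.Away s, inferInstance, inferInstance, H9CI.isSyntomic_of_forall_prime fun Q hQ => ?_,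
    πA, hπAs, hπAk⟩
  have hsQ : algebraMap B (Localization.Away s) s ∉ Q := fun h =>
    hQ.ne_top (Ideal.eq_top_of_isUnit_mem _ h (IsLocalization.Away.algebraMap_isUnit s))
  have haQ : ¬ Ideal.span good ≤ Q.comap (algebraMap B (Localization.Away s)) := fun h => hsQ (by
    rw [map_mul]
    exact Ideal.mul_mem_right _ _ (h ha))
  rw [Ideal.span_le, Set.not_subset] at haQ
  obtain ⟨k, hk, hkQ⟩ := haQ
  refine ⟨algebraMap B (Localization.Away s) k, hkQ, ?_⟩
  let A₁ := Localization.Away (algebraMap B (Localization.Away s) k)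
  let A₂ := Localization.Away (algebraMap B (Localization.Away k) s)
  haveI h₁ : IsLocalization.Away (s * k) A₁ := IsLocalization.Away.mul' (Localization.Away s) A₁ s k
  haveI h₂ : IsLocalization.Away (s * k) A₂ := by
    rw [mul_comm]
    exact IsLocalization.Away.mul' (Localization.Away k) A₂ k s
  exact isSyntomic_of_algEquiv ((IsLocalization.algEquiv (Submonoid.powers (s * k)) A₂ A₁).restrictScalars R)
    (H9CI.isSyntomic_away hk _)

/-- The syntomic lift cut out of a lifted presentation of a section of a smooth algebra. -/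
theorem exists_lift_of_section {A₀ D₀ : Type u} [CommRing A₀] [Algebra (R ⧸ I) A₀] [Algebra R A₀]
    [IsScalarTower R (R ⧸ I) A₀] [CommRing D₀] [Algebra (R ⧸ I) D₀] [Algebra R D₀]
    [IsScalarTower R (R ⧸ I) D₀] [Algebra A₀ D₀] [IsScalarTower (R ⧸ I) A₀ D₀] [Algebra.Smooth A₀ D₀]
    [Algebra.FinitePresentation (R ⧸ I) A₀]
    {m : ℕ} (g : Fin m → D₀) (Λ : D₀ →ₐ[A₀] TrivSqZeroExt A₀ (Fin m → A₀))
    (hΛg : ∀ j, Λ (g j) = inr (Pi.single j 1)) (r : D₀) (hr1 : (Λ r).fst = 1)
    (hr : ∀ x, (Λ x).fst = 0 → r * x ∈ Ideal.span (Set.range g))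
    {N : ℕ} {K : Ideal (MvPolynomial (Fin N) R)} (hK : K.FG)
    (hS : Synt.IsSyntomic R (MvPolynomial (Fin N) R ⧸ K))
    (π : (MvPolynomial (Fin N) R ⧸ K) →ₐ[R] D₀) (hπ : Function.Surjective π)
    (hπk : ∀ x, π x = 0 → x ∈ I.map (algebraMap R (MvPolynomial (Fin N) R ⧸ K))) :
    ∃ (A : Type u) (_ : CommRing A) (_ : Algebra R A), Synt.IsSyntomic R A ∧
      ∃ πA : A →ₐ[R] A₀, Function.Surjective πA ∧ ∀ x, πA x = 0 → x ∈ I.map (algebraMap R A) := by
  classical
  choose gt hgt using fun j => hπ (g j)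
  exact exists_lift_of_section_aux g Λ hΛg r hr1 hr hK hS π hπ hπk gt hgt
    (B := (MvPolynomial (Fin N) R ⧸ K) ⧸ Ideal.span (Set.range gt))
    (Ideal.Quotient.mkₐ R (Ideal.span (Set.range gt))) (Ideal.Quotient.mkₐ_surjective R _)
    (Ideal.Quotient.mkₐ_ker R (Ideal.span (Set.range gt)))

/-- Syntomic algebras lift along surjections of base rings. -/
theorem exists_syntomic_lift {A₀ : Type u} [CommRing A₀] [Algebra (R ⧸ I) A₀]
    (h : Synt.IsSyntomic (R ⧸ I) A₀) :
    ∃ (A : Type u) (_ : CommRing A) (_ : Algebra R A), Synt.IsSyntomic R A ∧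
      Nonempty ((A ⧸ I.map (algebraMap R A)) ≃ₐ[R ⧸ I] A₀) := by
  classical
  letI : Algebra R A₀ := ((algebraMap (R ⧸ I) A₀).comp (algebraMap R (R ⧸ I))).toAlgebra
  haveI : IsScalarTower R (R ⧸ I) A₀ := IsScalarTower.of_algebraMap_eq fun _ => rfl
  obtain ⟨n, c, F₀, hF₀, -, iA, iT, hsm, ρ, hρ⟩ := exists_smooth_retract_relGCI h
  letI := iA
  haveI := iT
  haveI := hsm
  let C₀ := Synt.RelGCIRing (R ⧸ I) n c F₀
  let ρA : C₀ →ₐ[A₀] A₀ := { ρ.toRingHom with commutes' := hρ }
  obtain ⟨m, e, he, g, Λ, hΛg, -, r, hr1, hr⟩ := exists_section_equations ρA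
  obtain ⟨C, _, _, hC, π₁, hπ₁s, hπ₁k⟩ := exists_lift_relGCI F₀ hF₀
  let J₁ := I.map (algebraMap R C)
  let q : (C ⧸ J₁) →ₐ[R] C₀ := Ideal.Quotient.liftₐ J₁ π₁ fun x hx => by
    refine (Ideal.map_le_iff_le_comap.mpr fun r hr => ?_ : J₁ ≤ RingHom.ker π₁.toRingHom) hx
    show π₁ (algebraMap R C r) = 0
    rw [π₁.commutes, IsScalarTower.algebraMap_apply R (R ⧸ I) C₀, Ideal.Quotient.algebraMap_eq,
      Ideal.Quotient.eq_zero_iff_mem.mpr hr, map_zero]
  let eq : (C ⧸ J₁) ≃ₐ[R] C₀ := AlgEquiv.ofBijective q ⟨(injective_iff_map_eq_zero _).mpr fun x hx => by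
      obtain ⟨x, rfl⟩ := Ideal.Quotient.mk_surjective x
      exact Ideal.Quotient.eq_zero_iff_mem.mpr (hπ₁k x hx),
    fun b => by obtain ⟨x, rfl⟩ := hπ₁s b; exact ⟨Ideal.Quotient.mk _ x, rfl⟩⟩
  obtain ⟨T, _, _, _, σ, hσk, hσs, E, hEE, hEσ⟩ :=
    H9Smooth.exists_etale_idem_lift J₁ ((Matrix.of e).map eq.symm) (Matrix.ext fun k j => by
      simp only [Matrix.mul_apply, Matrix.map_apply, Matrix.of_apply, ← map_mul, ← map_sum, he])
  letI : Algebra R T := ((algebraMap C T).comp (algebraMap R C)).toAlgebra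
  haveI : IsScalarTower R C T := IsScalarTower.of_algebraMap_eq fun _ => rfl
  let πT : T →ₐ[R] C₀ := eq.toAlgHom.comp (σ.restrictScalars R)
  have hπTs : Function.Surjective πT := eq.surjective.comp hσs
  have hπTk : ∀ x, πT x = 0 → x ∈ I.map (algebraMap R T) := fun x hx => by
    have := hσk x (eq.injective (hx.trans (map_zero eq).symm))
    rwa [Ideal.map_map, ← IsScalarTower.algebraMap_eq] at this
  have hπTE : ∀ k j, πT (E k j) = e k j := fun k j => by
    show eq (σ (E k j)) = _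
    rw [hEσ, Matrix.map_apply, Matrix.of_apply, eq.apply_symm_apply]
  have hE : ∀ k j, ∑ l, E k l * E l j = E k j := fun k j => by rw [← Matrix.mul_apply, hEE]
  let E' : Fin m → Fin m → T := fun k j => E k j
  haveI := smooth_symI E' hE
  haveI := smooth_symI e he
  have hD : Synt.IsSyntomic R (SymI E') :=
    H9CI.isSyntomic_comp (H9CI.isSyntomic_comp hC (isSyntomic_of_smooth C T)) (isSyntomic_of_smooth T (SymI E'))
  -- the reduction
  let red : MvPolynomial (Fin m) T →ₐ[R] MvPolynomial (Fin m) C₀ := MvPolynomial.mapAlgHom πT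
  have hreds : Function.Surjective red := MvPolynomial.map_surjective _ hπTs
  have hrel : ∀ j, red (relE E' j) = relE e j := fun j => by
    show MvPolynomial.map πT.toRingHom (relE E' j) = _
    simp only [relE, map_sub, map_sum, map_mul, MvPolynomial.map_X, MvPolynomial.map_C]
    simp [E', hπTE]
  let π'' : SymI E' →ₐ[R] SymI e := Ideal.Quotient.liftₐ _ ((Ideal.Quotient.mkₐ R (Ideal.span (Set.range (relE e)))).comp red) fun z hz => by
    refine (Ideal.span_le.mpr ?_ :
      Ideal.span (Set.range (relE E')) ≤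
        RingHom.ker ((Ideal.Quotient.mkₐ R (Ideal.span (Set.range (relE e)))).comp red).toRingHom) hz
    rintro _ ⟨j, rfl⟩
    show Ideal.Quotient.mk (Ideal.span (Set.range (relE e))) (red (relE E' j)) = 0
    rw [hrel]
    exact Ideal.Quotient.eq_zero_iff_mem.mpr (Ideal.subset_span ⟨j, rfl⟩)
  have hπ''s : Function.Surjective π'' := fun x => by
    obtain ⟨z, rfl⟩ := Ideal.Quotient.mk_surjective x
    obtain ⟨w, rfl⟩ := hreds z
    exact ⟨Ideal.Quotient.mk _ w, rfl⟩
  have hπ''k : ∀ x, π'' x = 0 → x ∈ I.map (algebraMap R (SymI E')) := fun x hx => by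
    obtain ⟨p, rfl⟩ := Ideal.Quotient.mk_surjective x
    have h2 : red p ∈ Ideal.span (Set.range (relE e)) := Ideal.Quotient.eq_zero_iff_mem.mp hx
    rw [show Set.range (relE e) = red '' Set.range (relE E') by
      rw [← Set.range_comp]; exact congrArg Set.range (funext fun j => (hrel j).symm), ← Ideal.map_span,
      Ideal.mem_map_iff_of_surjective _ hreds] at h2
    obtain ⟨p', hp', hpp⟩ := h2
    have h3 : p - p' ∈ I.map (algebraMap R (MvPolynomial (Fin m) T)) := by
      have h : p - p' ∈ RingHom.ker (MvPolynomial.map (σ := Fin m) πT.toRingHom) := by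
        show red (p - p') = 0
        rw [map_sub, hpp, sub_self]
      rw [MvPolynomial.ker_map] at h
      have hle : RingHom.ker πT.toRingHom ≤ I.map (algebraMap R T) := fun z hz => hπTk z hz
      have h' := Ideal.map_mono (f := MvPolynomial.C) hle h
      rwa [Ideal.map_map] at h'
    have h4 := Ideal.mem_map_of_mem (Ideal.Quotient.mk (Ideal.span (Set.range (relE E')))) h3
    rw [Ideal.map_map, map_sub, Ideal.Quotient.eq_zero_iff_mem.mpr hp', sub_zero] at h4
    exact h4
  -- a presentation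
  haveI := hD.2.1
  obtain ⟨N, φ, hφ, hK⟩ := Algebra.FinitePresentation.out (R := R) (A := SymI E')
  let ε : (MvPolynomial (Fin N) R ⧸ RingHom.ker φ.toRingHom) ≃ₐ[R] SymI E' :=
    Ideal.quotientKerAlgEquivOfSurjective hφ
  haveI : Algebra.Smooth A₀ (SymI e) := Algebra.Smooth.comp A₀ C₀ (SymI e)
  haveI := h.2.1
  obtain ⟨A, _, _, hA, πA, hπAs, hπAk⟩ := exists_lift_of_section g Λ hΛg r hr1 hr hK
    (isSyntomic_of_algEquiv ε.symm hD) (π''.comp ε.toAlgHom) (hπ''s.comp ε.surjective) fun x hx => by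
      have h1 := Ideal.mem_map_of_mem ε.symm.toAlgHom.toRingHom (hπ''k (ε x) hx)
      rw [Ideal.map_map, show ε.symm.toAlgHom.toRingHom.comp (algebraMap R (SymI E')) = algebraMap R _ from
        RingHom.ext fun a => ε.symm.commutes a] at h1
      rwa [show ε.symm.toAlgHom.toRingHom (ε x) = x from ε.symm_apply_apply x] at h1
  have hker : RingHom.ker πA.toRingHom = I.map (algebraMap R A) := by
    refine le_antisymm (fun x hx => hπAk x hx) (Ideal.map_le_iff_le_comap.mpr fun r hr => ?_)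
    show πA (algebraMap R A r) = 0
    rw [πA.commutes, IsScalarTower.algebraMap_apply R (R ⧸ I) A₀, Ideal.Quotient.algebraMap_eq,
      Ideal.Quotient.eq_zero_iff_mem.mpr hr, map_zero]
  let eA : (A ⧸ I.map (algebraMap R A)) ≃ₐ[R] A₀ :=
    (Ideal.quotientEquivAlgOfEq R hker.symm).trans (Ideal.quotientKerAlgEquivOfSurjective hπAs)
  refine ⟨A, inferInstance, inferInstance, hA, ⟨AlgEquiv.ofRingEquiv (f := eA.toRingEquiv) fun x => ?_⟩⟩
  obtain ⟨a, rfl⟩ := Ideal.Quotient.mk_surjective x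
  exact eA.commutes a

end Groth.Agent.H9Synt
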