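import Groth.Agent.H9CI.Conormal
import Groth.Agent.H9CI.FibreDim
import Groth.Agent.H9CI.Syntomic
import Groth.Agent.H17.LocProj

/-!
# A syntomic algebra is a smooth retract of a relative global complete intersection
-/

set_option linter.style.haveILetI false

universe u

open MvPolynomial TensorProduct CategoryTheory AlgebraicGeometry

namespace Groth.Agent.H9Synt

variable {R : Type u} [CommRing R] {n : ℕ} {I : Ideal (MvPolynomial (Fin n) R)}

/-- Equations near every prime in a presentation of a syntomic algebra. -/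
theorem exists_equations_of_isSyntomic (hI : I.FG) (h : Synt.IsSyntomic R (MvPolynomial (Fin n) R ⧸ I))
    (q : Ideal (MvPolynomial (Fin n) R ⧸ I)) [q.IsPrime] :
    ∃ (c : ℕ) (F : Fin c → MvPolynomial (Fin n) R) (G : MvPolynomial (Fin n) R),
      Ideal.Quotient.mk I G ∉ q ∧ (∀ i, F i ∈ I) ∧ (∀ z ∈ I, G * z ∈ Ideal.span (Set.range F)) ∧
      Synt.IsRelGCI R (n + 1) (c + 1) (H9CI.awayEqs F G) := by
  let S := MvPolynomial (Fin n) R ⧸ I
  let φ : MvPolynomial (Fin n) R →ₐ[R] S := Ideal.Quotient.mkₐ R I
  have hker : RingHom.ker φ.toRingHom = I := Ideal.mk_ker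
  obtain ⟨hflat, hfp, hlci⟩ := h
  haveI := hflat
  haveI : Module.Flat S (Localization.AtPrime q) := IsLocalization.flat _ q.primeCompl
  haveI : Module.Flat R (Localization.AtPrime q) := Module.Flat.trans R S _
  obtain ⟨Q, hQp, hQ⟩ := H9CI.exists_fibre_prime (R := R) q
  obtain ⟨c, F, G, hG, hF, hGK, hrel⟩ := H9CI.exists_equations_nhd (q.comap (algebraMap R S)) φ
    Ideal.Quotient.mk_surjective (hker.symm ▸ hI) q rfl Q hQ
    (H9CI.isCIOver_of_isLCIOver (hlci ⟨q.comap (algebraMap R S), inferInstance⟩) Q)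
  rw [hker] at hF hGK
  exact ⟨c, F, G, hG, hF, hGK, hrel⟩

/-- The conormal module of a syntomic algebra is projective. -/
theorem projective_cotangent (hI : I.FG) (h : Synt.IsSyntomic R (MvPolynomial (Fin n) R ⧸ I)) :
    Module.Projective (MvPolynomial (Fin n) R ⧸ I) I.Cotangent := by
  classical
  let S := MvPolynomial (Fin n) R ⧸ I
  let good : Set S := {G | Module.Free (Localization.Away G) (Localization.Away G ⊗[S] I.Cotangent)}
  have hgood : Ideal.span good = ⊤ := by
    by_contra hne
    obtain ⟨m, hm, hle⟩ := Ideal.exists_le_maximal _ hne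
    obtain ⟨c, F, G, hG, hF, hGK, hrel⟩ := exists_equations_of_isSyntomic hI h m
    exact hG (hle (Ideal.subset_span (H9CI.free_tensor_cotangent F hF G hGK hrel)))
  obtain ⟨s, hs, hs'⟩ := (Ideal.span_eq_top_iff_finite _).mp hgood
  refine H17.LocProj.projective_of_localizations (ι := (s : Set S)) (fun x => x.1) (by rwa [Subtype.range_coe]) fun x => ?_
  haveI : Module.Free (Localization.Away x.1) (Localization.Away x.1 ⊗[S] I.Cotangent) := hs x.2
  infer_instance

/-- Generators of the relations with an idempotent matrix modulo the relations. -/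
theorem exists_splitting_matrix (hI : I.FG) (h : Synt.IsSyntomic R (MvPolynomial (Fin n) R ⧸ I)) :
    ∃ (m : ℕ) (f : Fin m → MvPolynomial (Fin n) R) (E : Fin m → Fin m → MvPolynomial (Fin n) R),
      Ideal.span (Set.range f) = I ∧ (∀ j, ∑ l, E l j * f l - f j ∈ I * I) ∧
      (∀ k j, ∑ l, E k l * E l j - E k j ∈ I) ∧
      ∃ ι : I.Cotangent →ₗ[MvPolynomial (Fin n) R] (Fin m → MvPolynomial (Fin n) R ⧸ I),
        ∀ j l (hj : f j ∈ I), ι (I.toCotangent ⟨f j, hj⟩) l = Ideal.Quotient.mk I (E l j) := by
  classical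
  let S := MvPolynomial (Fin n) R ⧸ I
  haveI := projective_cotangent hI h
  obtain ⟨m, f, hf⟩ := Submodule.fg_iff_exists_fin_generating_family.mp hI
  have hfI : ∀ j, f j ∈ I := fun j => hf ▸ Submodule.subset_span ⟨j, rfl⟩
  let v : Fin m → I.Cotangent := fun j => I.toCotangent ⟨f j, hfI j⟩
  let p : (Fin m → S) →ₗ[S] I.Cotangent := Fintype.linearCombination S v
  have hsmul : ∀ (z : MvPolynomial (Fin n) R) (x : I.Cotangent), Ideal.Quotient.mk I z • x = z • x :=
    fun z x => algebraMap_smul S z x
  have hp : Function.Surjective p := fun x => by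
    obtain ⟨⟨y, hy⟩, rfl⟩ := I.toCotangent_surjective x
    obtain ⟨b, hb⟩ := Ideal.mem_span_range_iff_exists_fun.mp ((hf : Ideal.span (Set.range f) = I).ge hy)
    refine ⟨fun j => Ideal.Quotient.mk I (b j), ?_⟩
    simp only [p, Fintype.linearCombination_apply, v, hsmul, ← map_smul, ← map_sum]
    exact congrArg _ (Subtype.ext (by simp [hb]))
  obtain ⟨s, hs⟩ := Module.projective_lifting_property p LinearMap.id hp
  have hps : ∀ x, p (s x) = x := fun x => DFunLike.congr_fun hs x
  choose E hE using fun l j => Ideal.Quotient.mk_surjective (s (v j) l)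
  refine ⟨m, f, E, hf, fun j => ?_, fun k j => ?_, s.restrictScalars _, fun j l hj => (hE l j).symm⟩
  · have h1 := hps (v j)
    simp only [p, Fintype.linearCombination_apply, ← hE, v, hsmul, ← map_smul, ← map_sum] at h1
    have h2 := I.toCotangent_eq.mp h1
    rw [pow_two] at h2
    simpa using h2
  · have h1 : s (p (s (v j))) k = s (v j) k := by rw [hps]
    have h3 : s (p (s (v j))) = ∑ l, s (v j) l • s (v l) := by
      simp only [p, Fintype.linearCombination_apply, map_sum, map_smul]
    rw [h3] at h1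
    simp only [Finset.sum_apply, Pi.smul_apply, smul_eq_mul, ← hE, ← map_mul, ← map_sum] at h1
    rw [← Ideal.Quotient.eq, ← h1]
    exact congrArg _ (Finset.sum_congr rfl fun l _ => mul_comm _ _)

variable {m : ℕ}

/-- The linear relations cutting out the image of an idempotent matrix. -/
noncomputable def relE {S : Type u} [CommRing S] (e : Fin m → Fin m → S) (j : Fin m) : MvPolynomial (Fin m) S :=
  X j - ∑ l, C (e l j) * X l

/-- The symmetric algebra of the image of an idempotent matrix. -/
abbrev SymI {S : Type u} [CommRing S] (e : Fin m → Fin m → S) : Type u :=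
  MvPolynomial (Fin m) S ⧸ Ideal.span (Set.range (relE e))

/-- It is smooth. -/
theorem smooth_symI {S : Type u} [CommRing S] (e : Fin m → Fin m → S) (he : ∀ k j, ∑ l, e k l * e l j = e k j) :
    Algebra.Smooth S (SymI e) := by
  classical
  let q := Ideal.Quotient.mkₐ S (Ideal.span (Set.range (relE e)))
  let s₀ : MvPolynomial (Fin m) S →ₐ[S] MvPolynomial (Fin m) S := aeval fun j => ∑ l, C (e l j) * X l
  have hs₀ : Ideal.span (Set.range (relE e)) ≤ RingHom.ker s₀.toRingHom := by
    rw [Ideal.span_le]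
    rintro _ ⟨j, rfl⟩
    show s₀ (relE e j) = 0
    simp only [relE, s₀, map_sub, aeval_X, map_sum, map_mul, aeval_C, MvPolynomial.algebraMap_eq, Finset.mul_sum,
      ← mul_assoc, sub_eq_zero]
    rw [Finset.sum_comm]
    refine Finset.sum_congr rfl fun k _ => ?_
    rw [← Finset.sum_mul]
    simp only [← C_mul, ← map_sum, mul_comm (e _ j), he]
  let s : SymI e →ₐ[S] MvPolynomial (Fin m) S := Ideal.Quotient.liftₐ _ s₀ fun x hx => hs₀ hx
  have hqs : q.comp s = AlgHom.id S _ := by
    refine Ideal.Quotient.algHom_ext S (MvPolynomial.algHom_ext fun j => ?_)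
    show Ideal.Quotient.mk _ (s₀ (X j)) = Ideal.Quotient.mk _ (X j)
    rw [Ideal.Quotient.eq, aeval_X, ← neg_sub]
    exact neg_mem (Ideal.subset_span ⟨j, rfl⟩)
  haveI : Algebra.FormallySmooth S (SymI e) :=
    Algebra.FormallySmooth.of_split q ((Ideal.Quotient.mkₐ S _).comp s) (AlgHom.ext fun x => DFunLike.congr_fun hqs x)
  haveI : Algebra.FinitePresentation S (SymI e) :=
    Algebra.FinitePresentation.quotient (Submodule.fg_span (Set.finite_range _))
  exact ⟨inferInstance, inferInstance⟩

end Groth.Agent.H9Synt
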