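import Groth.Agent.H9Synt.SyntomicRetract

/-!
# A presentation of the symmetric algebra over a syntomic algebra
-/

set_option linter.style.haveILetI false

universe u

open MvPolynomial TensorProduct CategoryTheory AlgebraicGeometry

namespace Groth.Agent.H9Synt

variable {R : Type u} [CommRing R] {n m : ℕ}

/-- The matrix modulo the relations. -/
noncomputable abbrev eBar (I : Ideal (MvPolynomial (Fin n) R)) (E : Fin m → Fin m → MvPolynomial (Fin n) R) :
    Fin m → Fin m → MvPolynomial (Fin n) R ⧸ I :=
  fun k j => Ideal.Quotient.mk I (E k j)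

/-- The old variables among all variables. -/
noncomputable abbrev oldVars (n m : ℕ) : MvPolynomial (Fin n) R →ₐ[R] MvPolynomial (Fin (n + m)) R :=
  rename (Fin.castAdd m)

/-- The linear relations in all variables. -/
noncomputable def linRel (E : Fin m → Fin m → MvPolynomial (Fin n) R) (j : Fin m) : MvPolynomial (Fin (n + m)) R :=
  X (Fin.natAdd n j) - ∑ l, oldVars n m (E l j) * X (Fin.natAdd n l)

/-- The presentation of the symmetric algebra. -/
noncomputable def presSymI (I : Ideal (MvPolynomial (Fin n) R)) (E : Fin m → Fin m → MvPolynomial (Fin n) R) :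
    MvPolynomial (Fin (n + m)) R →ₐ[R] SymI (eBar I E) :=
  aeval (Fin.append (fun i => algebraMap (MvPolynomial (Fin n) R ⧸ I) _ (Ideal.Quotient.mk I (X i)))
    (fun j => Ideal.Quotient.mk _ (X j)))

variable (I : Ideal (MvPolynomial (Fin n) R)) (E : Fin m → Fin m → MvPolynomial (Fin n) R)

theorem presSymI_oldVars (z : MvPolynomial (Fin n) R) :
    presSymI I E (oldVars n m z) = algebraMap (MvPolynomial (Fin n) R ⧸ I) _ (Ideal.Quotient.mk I z) := by
  refine DFunLike.congr_fun (show (presSymI I E).comp (oldVars n m) =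
    (IsScalarTower.toAlgHom R (MvPolynomial (Fin n) R ⧸ I) (SymI (eBar I E))).comp (Ideal.Quotient.mkₐ R I) from
      MvPolynomial.algHom_ext fun i => ?_) z
  simp [presSymI]

theorem presSymI_natAdd (j : Fin m) : presSymI I E (X (Fin.natAdd n j)) = Ideal.Quotient.mk _ (X j) := by
  simp [presSymI]

/-- In the symmetric algebra the matrix fixes the variables. -/
theorem symI_sum_eq {S : Type u} [CommRing S] (e : Fin m → Fin m → S) (j : Fin m) :
    ∑ l, algebraMap S (SymI e) (e l j) * Ideal.Quotient.mk (Ideal.span (Set.range (relE e))) (X l) =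
      Ideal.Quotient.mk (Ideal.span (Set.range (relE e))) (X j) := by
  have h : Ideal.Quotient.mk (Ideal.span (Set.range (relE e))) (relE e j) = 0 :=
    Ideal.Quotient.eq_zero_iff_mem.mpr (Ideal.subset_span ⟨j, rfl⟩)
  rw [relE, map_sub, sub_eq_zero, map_sum] at h
  rw [h]
  exact Finset.sum_congr rfl fun l _ => (map_mul (Ideal.Quotient.mk (Ideal.span (Set.range (relE e)))) (C (e l j)) (X l)).symm

theorem presSymI_surjective : Function.Surjective (presSymI I E) := by
  intro x
  obtain ⟨z, rfl⟩ := Ideal.Quotient.mk_surjective x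
  induction z using MvPolynomial.induction_on with
  | C a =>
    obtain ⟨a, rfl⟩ := Ideal.Quotient.mk_surjective a
    exact ⟨oldVars n m a, presSymI_oldVars I E a⟩
  | add p q hp hq =>
    obtain ⟨a, ha⟩ := hp
    obtain ⟨b, hb⟩ := hq
    exact ⟨a + b, by rw [map_add, map_add, ha, hb]⟩
  | mul_X p i hp =>
    obtain ⟨a, ha⟩ := hp
    exact ⟨a * X (Fin.natAdd n i), by rw [map_mul, map_mul, ha, presSymI_natAdd]⟩

/-- The kernel of the presentation. -/
theorem ker_presSymI :
    RingHom.ker (presSymI I E).toRingHom = I.map (oldVars n m).toRingHom ⊔ Ideal.span (Set.range (linRel E)) := by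
  set J := I.map (oldVars n m).toRingHom ⊔ Ideal.span (Set.range (linRel E)) with hJ
  refine le_antisymm (fun z hz => ?_) ?_
  · let Q := MvPolynomial (Fin (n + m)) R ⧸ J
    let a : MvPolynomial (Fin n) R ⧸ I →+* Q := Ideal.Quotient.lift I
      ((Ideal.Quotient.mk J).comp (oldVars n m).toRingHom) fun w hw =>
        Ideal.Quotient.eq_zero_iff_mem.mpr (Ideal.mem_sup_left (Ideal.mem_map_of_mem _ hw))
    let b : MvPolynomial (Fin m) (MvPolynomial (Fin n) R ⧸ I) →+* Q :=
      eval₂Hom a fun j => Ideal.Quotient.mk J (X (Fin.natAdd n j))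
    have hb : Ideal.span (Set.range (relE (eBar I E))) ≤ RingHom.ker b := by
      rw [Ideal.span_le]
      rintro _ ⟨j, rfl⟩
      show b (relE (eBar I E) j) = 0
      have h : Ideal.Quotient.mk J (linRel E j) = 0 :=
        Ideal.Quotient.eq_zero_iff_mem.mpr (Ideal.mem_sup_right (Ideal.subset_span ⟨j, rfl⟩))
      rw [← h]
      simp [relE, linRel, b, a]
    let d : SymI (eBar I E) →+* Q := Ideal.Quotient.lift _ b fun w hw => hb hw
    have hd : d.comp (presSymI I E).toRingHom = Ideal.Quotient.mk J := by
      refine MvPolynomial.ringHom_ext (fun c => ?_) fun i => ?_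
      · show d (presSymI I E (C c)) = _
        rw [← MvPolynomial.algebraMap_eq, (presSymI I E).commutes]
        show b (C (Ideal.Quotient.mk I (C c))) = _
        simp [b, a]
      · show d (presSymI I E (X i)) = _
        refine Fin.addCases (fun k => ?_) (fun k => ?_) i
        · rw [show (X (Fin.castAdd m k) : MvPolynomial (Fin (n + m)) R) = oldVars n m (X k) from (rename_X _ _).symm,
            presSymI_oldVars]
          show b (C (Ideal.Quotient.mk I (X k))) = _
          simp [b, a]
        · rw [presSymI_natAdd]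
          show b (X k) = _
          simp [b]
    rw [← Ideal.Quotient.eq_zero_iff_mem, ← hd]
    show d (presSymI I E z) = 0
    rw [show presSymI I E z = 0 from hz, map_zero]
  · refine sup_le (Ideal.map_le_iff_le_comap.mpr fun w hw => ?_) (Ideal.span_le.mpr ?_)
    · show presSymI I E (oldVars n m w) = 0
      rw [presSymI_oldVars, Ideal.Quotient.eq_zero_iff_mem.mpr hw, map_zero]
    · rintro _ ⟨j, rfl⟩
      show presSymI I E (linRel E j) = 0
      simp only [linRel, map_sub, map_sum, map_mul, presSymI_natAdd, presSymI_oldVars]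
      rw [sub_eq_zero]
      exact (symI_sum_eq (eBar I E) j).symm

/-- The equations of the presentation. -/
noncomputable def symEqs (f : Fin m → MvPolynomial (Fin n) R) (E : Fin m → Fin m → MvPolynomial (Fin n) R)
    (j : Fin m) : MvPolynomial (Fin (n + m)) R :=
  oldVars n m (f j) + (linRel E j - ∑ l, linRel E l * oldVars n m (E l j))

variable (f : Fin m → MvPolynomial (Fin n) R) (hspan : Ideal.span (Set.range f) = I)
  (hsplit : ∀ j, ∑ l, E l j * f l - f j ∈ I * I) (hidem : ∀ k j, ∑ l, E k l * E l j - E k j ∈ I)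

include hspan in
theorem symEqs_mem (j : Fin m) : symEqs f E j ∈ RingHom.ker (presSymI I E).toRingHom := by
  rw [ker_presSymI]
  refine add_mem (Ideal.mem_sup_left (Ideal.mem_map_of_mem _ (hspan ▸ Ideal.subset_span ⟨j, rfl⟩)))
    (sub_mem (Ideal.mem_sup_right (Ideal.subset_span ⟨j, rfl⟩)) (sum_mem fun l _ => ?_))
  exact Ideal.mul_mem_right _ _ (Ideal.mem_sup_right (Ideal.subset_span ⟨l, rfl⟩))

include hspan hsplit hidem in
/-- The kernel is generated by the equations modulo its square. -/
theorem ker_le_span_sup_sq :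
    RingHom.ker (presSymI I E).toRingHom ≤ Ideal.span (Set.range (symEqs f E)) ⊔
      RingHom.ker (presSymI I E).toRingHom * RingHom.ker (presSymI I E).toRingHom := by
  set J := RingHom.ker (presSymI I E).toRingHom
  set K := Ideal.span (Set.range (symEqs f E)) ⊔ J * J
  let ι : MvPolynomial (Fin n) R →ₐ[R] MvPolynomial (Fin (n + m)) R := oldVars n m
  let y : Fin m → MvPolynomial (Fin (n + m)) R := fun j => X (Fin.natAdd n j)
  let r := linRel E
  let D : Fin m → Fin m → MvPolynomial (Fin n) R := fun k j => E k j - ∑ l, E k l * E l j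
  have hD : ∀ k j, D k j ∈ I := fun k j => by rw [← neg_mem_iff, neg_sub]; exact hidem k j
  have hJI : ∀ w ∈ I, ι w ∈ J := fun w hw =>
    (ker_presSymI I E).ge (Ideal.mem_sup_left (Ideal.mem_map_of_mem _ hw))
  have hJr : ∀ j, r j ∈ J := fun j => (ker_presSymI I E).ge (Ideal.mem_sup_right (Ideal.subset_span ⟨j, rfl⟩))
  have hg : ∀ j, symEqs f E j ∈ K := fun j => Ideal.mem_sup_left (Ideal.subset_span ⟨j, rfl⟩)
  have hrE : ∀ j, ∑ l, r l * ι (E l j) = ∑ l, y l * ι (D l j) := fun j => by
    simp only [r, linRel, D, map_sub, map_sum, map_mul, sub_mul, mul_sub, Finset.sum_sub_distrib, Finset.sum_mul,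
      Finset.mul_sum]
    congr 1
    rw [Finset.sum_comm]
    exact Finset.sum_congr rfl fun k _ => Finset.sum_congr rfl fun l _ => by ring
  have hrDE : ∀ j, ∑ l, r l * ι (D l j) ∈ J * J := fun j =>
    sum_mem fun l _ => Ideal.mul_mem_mul (hJr l) (hJI _ (hD l j))
  have hf : ∀ j, ι (f j) ∈ K := fun j => by
    have h1 : ι (∑ l, E l j * f l - f j) ∈ J * J := by
      have h := Ideal.mem_map_of_mem ι.toRingHom (hsplit j)
      rw [Ideal.map_mul] at h
      exact Ideal.mul_mono (Ideal.map_le_iff_le_comap.mpr hJI) (Ideal.map_le_iff_le_comap.mpr hJI) h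
    have h2 : ∑ l, symEqs f E l * ι (E l j) ∈ K := sum_mem fun l _ => Ideal.mul_mem_right _ _ (hg l)
    have h3 : ι (f j) = ∑ l, symEqs f E l * ι (E l j) - ι (∑ l, E l j * f l - f j) - ∑ l, r l * ι (D l j) := by
      simp only [symEqs, r, D, ι, map_sub, map_sum, map_mul, add_mul, sub_mul, mul_sub, Finset.sum_add_distrib,
        Finset.sum_sub_distrib, Finset.sum_mul, Finset.mul_sum]
      have e1 : ∑ l, oldVars n m (f l) * oldVars n m (E l j) = ∑ l, oldVars n m (E l j) * oldVars n m (f l) :=
        Finset.sum_congr rfl fun l _ => mul_comm _ _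
      have e2 : ∑ l : Fin m, ∑ k, linRel E k * oldVars n m (E k l) * oldVars n m (E l j) =
          ∑ k : Fin m, ∑ l, linRel E k * (oldVars n m (E k l) * oldVars n m (E l j)) := by
        rw [Finset.sum_comm]
        exact Finset.sum_congr rfl fun k _ => Finset.sum_congr rfl fun l _ => mul_assoc _ _ _
      rw [e1, e2]
      ring
    rw [h3]
    exact sub_mem (sub_mem h2 (Ideal.mem_sup_right h1)) (Ideal.mem_sup_right (hrDE j))
  have hI : ∀ w ∈ I, ι w ∈ K := fun w hw => by
    rw [← hspan] at hw
    exact (Ideal.span_le.mpr (Set.range_subset_iff.mpr hf) : Ideal.span (Set.range f) ≤ K.comap ι.toRingHom) hw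
  rw [show J = _ from ker_presSymI I E]
  refine sup_le (Ideal.map_le_iff_le_comap.mpr hI) (Ideal.span_le.mpr ?_)
  rintro _ ⟨j, rfl⟩
  have h : linRel E j = symEqs f E j - ι (f j) + ∑ l, y l * ι (D l j) := by
    rw [← hrE]
    simp only [symEqs, r, ι]
    ring
  show linRel E j ∈ K
  rw [h]
  exact add_mem (sub_mem (hg j) (hf j)) (sum_mem fun l _ => Ideal.mul_mem_left _ _ (hI _ (hD l j)))

end Groth.Agent.H9Synt
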