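import Groth.Prelude.Def_Omega3
import Mathlib.Algebra.Category.ModuleCat.Differentials.Presheaf
import Mathlib.Algebra.Category.ModuleCat.Presheaf.Sheafification
import Mathlib.Algebra.Category.Grp.FilteredColimits
import Mathlib.CategoryTheory.Sites.LeftExact

/-!
# Every morphism of schemes has a universal derivation
-/

set_option autoImplicit false

universe u

open CategoryTheory AlgebraicGeometry TopologicalSpace Opposite

noncomputable section

namespace Groth.Agent.H9Synt.UniversalDer

variable {X Y : Scheme.{u}} (f : X ⟶ Y)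

/-- The functions on `U` coming from the base. -/
def baseGens (U : X.Opens) : Set Γ(X, U) :=
  {s | ∃ (V : Y.Opens) (h : U ≤ f ⁻¹ᵁ V) (c : Γ(Y, V)), X.presheaf.map (homOfLE h).op (f.app V c) = s}

/-- The subring generated by the functions from the base. -/
def baseSub (U : X.Opens) : Subring Γ(X, U) := Subring.closure (baseGens f U)

theorem map_mem {U U' : X.Opens} (e : U' ≤ U) {s : Γ(X, U)} (hs : s ∈ baseSub f U) :
    X.presheaf.map (homOfLE e).op s ∈ baseSub f U' := by
  have : (baseSub f U).map (X.presheaf.map (homOfLE e).op).hom ≤ baseSub f U' := by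
    rw [baseSub, RingHom.map_closure, Subring.closure_le]
    rintro _ ⟨_, ⟨V, h, c, rfl⟩, rfl⟩
    refine Subring.subset_closure ⟨V, e.trans h, c, ?_⟩
    show _ = (X.presheaf.map _ ≫ X.presheaf.map _) (f.app V c)
    rw [← X.presheaf.map_comp]
    rfl
  exact this ⟨s, hs, rfl⟩

/-- The presheaf of these subrings. -/
def basePresheaf : (Opens X)ᵒᵖ ⥤ CommRingCat.{u} where
  obj U := CommRingCat.of (baseSub f U.unop)
  map {U U'} e := CommRingCat.ofHom
    (((X.presheaf.map e).hom.comp (baseSub f U.unop).subtype).codRestrict (baseSub f U'.unop)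
      fun s => map_mem f (leOfHom e.unop) s.2)
  map_id U := CommRingCat.hom_ext (RingHom.ext fun s => Subtype.ext (by
    show X.presheaf.map (𝟙 U) _ = _
    rw [CategoryTheory.Functor.map_id]; rfl))
  map_comp {U U' U''} e e' := CommRingCat.hom_ext (RingHom.ext fun s => Subtype.ext (by
    show X.presheaf.map (e ≫ e') _ = _
    rw [CategoryTheory.Functor.map_comp]; rfl))

/-- The inclusion. -/
def baseIncl : basePresheaf f ⟶ X.presheaf where
  app U := CommRingCat.ofHom (baseSub f U.unop).subtype

variable {f}

/-- A derivation over the base kills these subrings. -/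
theorem eq_zero_of_mem {F : X.Modules} (D : OmegaSh.Der f F) {U : X.Opens} {s : Γ(X, U)}
    (hs : s ∈ baseSub f U) : D.app U s = 0 := by
  induction hs using Subring.closure_induction with
  | mem x hx =>
    obtain ⟨V, h, c, rfl⟩ := hx
    exact (D.d_map (homOfLE h).op (f.app V c)).trans ((congrArg _ (D.d_app c)).trans (map_zero _))
  | zero => exact map_zero _
  | one => exact D.d_one _
  | add x y _ _ hx hy => rw [map_add, hx, hy, add_zero]
  | neg x _ hx => rw [map_neg, hx, neg_zero]
  | mul x y _ _ hx hy =>
    refine (D.d_mul x y).trans ?_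
    rw [show D.d (X := op U) y = 0 from hy, show D.d (X := op U) x = 0 from hx, smul_zero, smul_zero]
    exact add_zero _

/-- As a derivation relative to the subrings. -/
def toBase {F : X.Modules} (D : OmegaSh.Der f F) : F.val.Derivation' (baseIncl f) where
  d := D.d
  d_mul := D.d_mul
  d_map := D.d_map
  d_app {U} a := eq_zero_of_mem D a.2

/-- And back. -/
def ofBase {F : X.Modules} (D : F.val.Derivation' (baseIncl f)) : OmegaSh.Der f F where
  d := D.d
  d_mul := D.d_mul
  d_map := D.d_map
  d_app {V} c := D.d_app (X := op (f ⁻¹ᵁ V.unop))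
    ⟨f.app V.unop c, Subring.subset_closure ⟨V.unop, le_rfl, c, by simp⟩⟩

variable (f)

theorem exists_universal : ∃ (Ω : X.Modules) (d : OmegaSh.Der f Ω), OmegaSh.IsUniversal d := by
  let M := PresheafOfModules.DifferentialsConstruction.relativeDifferentials' (baseIncl f)
  let d₀ := PresheafOfModules.DifferentialsConstruction.derivation' (baseIncl f)
  let hu := PresheafOfModules.DifferentialsConstruction.isUniversal' (baseIncl f)
  let α : X.ringCatSheaf.obj ⟶ X.ringCatSheaf.obj := 𝟙 _
  let Ω : X.Modules := (PresheafOfModules.sheafification (R := X.ringCatSheaf) α).obj M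
  let η : M ⟶ Ω.val := PresheafOfModules.sheafificationHomEquiv (R := X.ringCatSheaf) α (𝟙 Ω)
  refine ⟨Ω, ofBase (d₀.postcomp η), fun F D => ?_⟩
  let e := PresheafOfModules.sheafificationHomEquiv (R := X.ringCatSheaf) α (P := M) (F := F)
  have he : ∀ β : Ω ⟶ F, e β = η ≫ β.val := fun β => by
    have := (PresheafOfModules.sheafificationAdjunction (R := X.ringCatSheaf) α).homEquiv_naturality_right (𝟙 Ω) β
    refine (congrArg e (Category.id_comp β).symm).trans ?_
    exact this
  have key : ∀ β : Ω ⟶ F,
      (ofBase (d₀.postcomp η)).postcomp β.val = D ↔ d₀.postcomp (e β) = toBase D := by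
    intro β
    rw [he]
    constructor <;> intro h <;> ext U s
    · exact congr($(h).d (X := U) s)
    · exact congr($(h).d (X := U) s)
  refine ⟨e.symm (hu.desc (toBase D)), (key _).mpr ?_, fun β hβ => ?_⟩
  · rw [Equiv.apply_symm_apply, hu.fac]
  · refine e.eq_symm_apply.mpr ?_
    exact hu.postcomp_injective _ _ (((key β).mp hβ).trans (hu.fac _).symm)

end Groth.Agent.H9Synt.UniversalDer
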