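import Groth.Agent.S9711
import Groth.Agent.S9371
import Groth.Agent.S9370
import Groth.Agent.S9386
import Groth.Agent.S9776
import Groth.Agent.S8656
import Groth.Agent.H17.PullSect
import Groth.Agent.H17.PullSectLocal
import Groth.Agent.H17.Conormal.Trans
import Groth.Agent.H9Synt.UniversalDer
import Groth.Agent.H19AbSch.OmegaGrp
import Groth.Agent.H29Blow.IdealMod
import Groth.Agent.H29Ref.ConormalQReg
import Groth.Agent.H29Slice.KoszulReg
import Groth.Agent.H29Slice.H1Quasi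
import Groth.Agent.H06Unram.OmegaLocFree

/-!
# The two-term cotangent complexes of two smooth embeddings

For closed immersions `i : X ⟶ V`, `i' : X ⟶ V'` into schemes smooth over `Y`, the conormal sheaf of
`(i, i') : X ⟶ V ×_Y V'` is an extension of `i'^* Ω'` by `N_i` and of `i^* Ω` by `N_{i'}`.
-/

set_option autoImplicit false
set_option linter.style.haveILetI false

universe u

open CategoryTheory CategoryTheory.Limits AlgebraicGeometry

noncomputable section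

namespace Groth.Agent.H9Synt.VirtualCotangent

/-- Maps out of a pullback are determined by their values on pulled back sections. -/
theorem hom_ext_pullSect {Z Z' : Scheme.{u}} (p : Z' ⟶ Z) {G : Z.Modules} {N : Z'.Modules}
    {φ ψ : (Scheme.Modules.pullback p).obj G ⟶ N}
    (h : ∀ (U : Z.Opens) (s : Γ(G, U)), φ.app (p ⁻¹ᵁ U) (OmegaSh.pullSect p G U s) =
      ψ.app (p ⁻¹ᵁ U) (OmegaSh.pullSect p G U s)) : φ = ψ := by
  apply ((Scheme.Modules.pullbackPushforwardAdjunction p).homEquiv G N).injective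
  rw [Adjunction.homEquiv_unit, Adjunction.homEquiv_unit]
  exact Scheme.Modules.hom_ext _ _ fun U => ConcreteCategory.hom_ext _ _ fun s => h U s

theorem pullbackId_inv_app {Z : Scheme.{u}} (M : Z.Modules) (U : Z.Opens) (s : Γ(M, U)) :
    ((Scheme.Modules.pullbackId Z).inv.app M).app U s = OmegaSh.pullSect (𝟙 Z) M U s := by
  have h : ((Scheme.Modules.pullbackId Z).hom.app M).app U (OmegaSh.pullSect (𝟙 Z) M U s) = s :=
    congr($(congrArg (fun k => Scheme.Modules.Hom.app k U) (H17.Conormal.unit_comp_pullbackId M)) s)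
  conv_lhs => rw [← h]
  exact congr($(congrArg (fun k => Scheme.Modules.Hom.app k U)
    ((Scheme.Modules.pullbackId Z).hom_inv_id_app M)) (OmegaSh.pullSect (𝟙 Z) M U s))

variable {X V W Y : Scheme.{u}}

/-- `(l ≫ p)^* M ⟶ l^* N` induced by `c : p^* M ⟶ N`. -/
def compMap (l : X ⟶ W) (p : W ⟶ V) {M : V.Modules} {N : W.Modules}
    (c : (Scheme.Modules.pullback p).obj M ⟶ N) :
    (Scheme.Modules.pullback (l ≫ p)).obj M ⟶ (Scheme.Modules.pullback l).obj N :=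
  (Scheme.Modules.pullbackComp l p).inv.app M ≫ (Scheme.Modules.pullback l).map c

instance isIso_compMap (l : X ⟶ W) (p : W ⟶ V) {M : V.Modules} {N : W.Modules}
    (c : (Scheme.Modules.pullback p).obj M ⟶ N) [IsIso c] : IsIso (compMap l p c) := by
  unfold compMap; infer_instance

theorem compMap_app (l : X ⟶ W) (p : W ⟶ V) {M : V.Modules} {N : W.Modules}
    (c : (Scheme.Modules.pullback p).obj M ⟶ N) (U : V.Opens) (m : Γ(M, U)) :
    (compMap l p c).app ((l ≫ p) ⁻¹ᵁ U) (OmegaSh.pullSect (l ≫ p) M U m) =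
      OmegaSh.pullSect l N (p ⁻¹ᵁ U) (c.app (p ⁻¹ᵁ U) (OmegaSh.pullSect p M U m)) := by
  rw [H17.PullSect.pullSect_natural, ← H17.PullSect.pullSect_comp]
  rfl

/-- The conormal map along an identity, as a map of conormal sheaves. -/
def idMap {i : X ⟶ V} {N : X.Modules}
    (ψ : (Scheme.Modules.pullback (𝟙 X)).obj (Omega.conormal i) ⟶ N) : Omega.conormal i ⟶ N :=
  (Scheme.Modules.pullbackId X).inv.app (Omega.conormal i) ≫ ψ

variable {g : V ⟶ Y} {Ω : V.Modules} {d : OmegaSh.Der g Ω}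
  {V' : Scheme.{u}} {q : W ⟶ V'} {Ωq : W.Modules} {dq : OmegaSh.Der q Ωq}

/-- The conormal differential of the composite, through the comparison. -/
theorem idMap_comp_diff {l : X ⟶ W} [IsImmersion l] [QuasiCompact l] {p : W ⟶ V}
    [IsImmersion (l ≫ p)] [QuasiCompact (l ≫ p)]
    {ψ : (Scheme.Modules.pullback (𝟙 X)).obj (Omega.conormal (l ≫ p)) ⟶ Omega.conormal l}
    (hψ : OmegaSh.IsConormalMap l (l ≫ p) p (𝟙 X) ψ)
    {φq : Omega.conormal l ⟶ (Scheme.Modules.pullback l).obj Ωq} (hφq : OmegaSh.IsConormalDiff l dq φq)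
    {φ : Omega.conormal (l ≫ p) ⟶ (Scheme.Modules.pullback (l ≫ p)).obj Ω}
    (hφ : OmegaSh.IsConormalDiff (l ≫ p) d φ)
    {c : (Scheme.Modules.pullback p).obj Ω ⟶ Ωq} (hc : OmegaSh.IsDiffCompat p d dq c) :
    idMap ψ ≫ φq = φ ≫ compMap l p c := by
  refine hom_ext_pullSect (l ≫ p) (G := ClSub.idealMod (l ≫ p).ker) fun U s' => ?_
  let s := (S9371.idealMap l (l ≫ p) p (𝟙 X) hψ.1).app U s'
  have hs := S9371.idealSect_idealMap l (l ≫ p) p (𝟙 X) hψ.1 U s'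
  have h1 := hψ.2 U s' s hs ((l ≫ p) ⁻¹ᵁ U) le_rfl le_rfl
  have h2 : (idMap ψ).app ((l ≫ p) ⁻¹ᵁ U) (OmegaSh.conormalSect (l ≫ p) U s') =
      OmegaSh.conormalSect l (p ⁻¹ᵁ U) s := by
    show ψ.app _ (((Scheme.Modules.pullbackId X).inv.app (Omega.conormal (l ≫ p))).app _
      (OmegaSh.conormalSect (l ≫ p) U s')) = _
    rw [pullbackId_inv_app]
    have hid : ∀ (A : X.Opens) (h : A ≤ A) (x : Γ(Omega.conormal l, A)),
        (Omega.conormal l).presheaf.map (homOfLE h).op x = x := fun A h x => by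
      rw [show homOfLE h = 𝟙 A from rfl, op_id, CategoryTheory.Functor.map_id]; rfl
    exact (hid _ _ _).symm.trans (h1.trans (hid _ _ _))
  show φq.app _ ((idMap ψ).app ((l ≫ p) ⁻¹ᵁ U) (OmegaSh.conormalSect (l ≫ p) U s')) =
    (compMap l p c).app _ (φ.app _ (OmegaSh.conormalSect (l ≫ p) U s'))
  refine (congrArg (φq.app _) h2).trans ((hφq (p ⁻¹ᵁ U) s).trans ?_)
  refine Eq.trans ?_ (congrArg ((compMap l p c).app _) (hφ U s')).symm
  refine Eq.trans ?_ (compMap_app l p c U _).symm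
  exact congrArg _ ((congrArg (dq.app _) hs).trans (hc U _).symm)

/-- The sequence of a smooth projection. -/
theorem shortExact_side {l : X ⟶ W} [IsImmersion l] [QuasiCompact l] {p : W ⟶ V} [Smooth p]
    [IsImmersion (l ≫ p)] [QuasiCompact (l ≫ p)] {Ωp : W.Modules} {dp : OmegaSh.Der p Ωp}
    (hdp : OmegaSh.IsUniversal dp)
    {ψ : (Scheme.Modules.pullback (𝟙 X)).obj (Omega.conormal (l ≫ p)) ⟶ Omega.conormal l}
    (hψ : OmegaSh.IsConormalMap l (l ≫ p) p (𝟙 X) ψ)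
    {φp : Omega.conormal l ⟶ (Scheme.Modules.pullback l).obj Ωp} (hφp : OmegaSh.IsConormalDiff l dp φp)
    {M : X.Modules} (e : (Scheme.Modules.pullback l).obj Ωp ≅ M) :
    ∃ w : idMap ψ ≫ (φp ≫ e.hom) = 0, (ShortComplex.mk _ _ w).ShortExact := by
  obtain ⟨w, hS⟩ := S9711.result p l (l ≫ p) rfl Ωp dp hdp ψ hψ φp hφp
  have w' : idMap ψ ≫ (φp ≫ e.hom) = 0 := by
    rw [idMap, Category.assoc, reassoc_of% w, zero_comp, comp_zero]
  let E : ShortComplex.mk ψ φp w ≅ ShortComplex.mk _ _ w' :=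
    ShortComplex.isoMk ((Scheme.Modules.pullbackId X).app _) (Iso.refl _) e (by simp [idMap]) (by simp)
  exact ⟨w', ShortComplex.shortExact_of_iso E hS⟩

/-- Composition of comparison maps of differentials. -/
theorem isDiffCompat_comp {X₁ X₂ X₃ Y₁ Y₂ Y₃ : Scheme.{u}} {f₁ : X₁ ⟶ Y₁} {f₂ : X₂ ⟶ Y₂} {f₃ : X₃ ⟶ Y₃}
    (h : X₃ ⟶ X₂) (k : X₂ ⟶ X₁) {Ω₁ : X₁.Modules} {Ω₂ : X₂.Modules} {Ω₃ : X₃.Modules}
    {d₁ : OmegaSh.Der f₁ Ω₁} {d₂ : OmegaSh.Der f₂ Ω₂} {d₃ : OmegaSh.Der f₃ Ω₃}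
    {c₁ : (Scheme.Modules.pullback k).obj Ω₁ ⟶ Ω₂} (hc₁ : OmegaSh.IsDiffCompat k d₁ d₂ c₁)
    {c₂ : (Scheme.Modules.pullback h).obj Ω₂ ⟶ Ω₃} (hc₂ : OmegaSh.IsDiffCompat h d₂ d₃ c₂) :
    OmegaSh.IsDiffCompat (h ≫ k) d₁ d₃ (compMap h k c₁ ≫ c₂) := by
  intro U s
  show c₂.app _ ((compMap h k c₁).app ((h ≫ k) ⁻¹ᵁ U) (OmegaSh.pullSect (h ≫ k) Ω₁ U (d₁.app U s))) = _
  rw [compMap_app, hc₁]
  exact hc₂ (k ⁻¹ᵁ U) (k.app U s)

/-- On an open subscheme of a fibre product the relative differentials are pulled back. -/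
theorem exists_iso_compat {S S' P : Scheme.{u}} {f : V ⟶ S} {b : S' ⟶ S} {pr : P ⟶ V} {f' : P ⟶ S'}
    (hsq : IsPullback pr f' f b) (ι : W ⟶ P) [IsOpenImmersion ι]
    {Ω₀ : V.Modules} {d₀ : OmegaSh.Der f Ω₀} (hd₀ : OmegaSh.IsUniversal d₀)
    {Ω₁ : W.Modules} {d₁ : OmegaSh.Der (ι ≫ f') Ω₁} (hd₁ : OmegaSh.IsUniversal d₁) :
    ∃ c : (Scheme.Modules.pullback (ι ≫ pr)).obj Ω₀ ⟶ Ω₁,
      IsIso c ∧ OmegaSh.IsDiffCompat (ι ≫ pr) d₀ d₁ c := by
  obtain ⟨ΩP, dP, hu⟩ := UniversalDer.exists_universal f'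
  obtain ⟨cP, hcP, -⟩ := S9370.result f f' pr b hsq.w.symm Ω₀ d₀ hd₀ ΩP dP hu
  haveI := S9386.result f b pr f' hsq Ω₀ d₀ hd₀ ΩP dP hu cP hcP
  obtain ⟨cU, hcU, -⟩ := S9370.result f' (ι ≫ f') ι (𝟙 S') (by simp) ΩP dP hu Ω₁ d₁ hd₁
  haveI := S9776.result f' (ι ≫ f') ι (𝟙 S') (by simp) ΩP dP hu Ω₁ d₁ hd₁ cU hcU
  exact ⟨compMap ι pr cP ≫ cU, inferInstance, isDiffCompat_comp ι pr hcP hcU⟩

/-- The common extension, for a given embedding into an open of the product. -/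
theorem exists_common_aux {X Y V V' U : Scheme.{u}} (g : V ⟶ Y) [Smooth g] (i : X ⟶ V) [IsClosedImmersion i]
    (g' : V' ⟶ Y) [Smooth g'] (i' : X ⟶ V') [IsClosedImmersion i']
    (ι : U ⟶ pullback g g') [IsOpenImmersion ι] (j : X ⟶ U) [IsClosedImmersion j]
    (p : U ⟶ V) (hp' : p = ι ≫ pullback.fst g g') (q : U ⟶ V') (hq' : q = ι ≫ pullback.snd g g')
    (hp : j ≫ p = i) (hq : j ≫ q = i')
    (Ω : V.Modules) (d : OmegaSh.Der g Ω) (hd : OmegaSh.IsUniversal d)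
    (Ω' : V'.Modules) (d' : OmegaSh.Der g' Ω') (hd' : OmegaSh.IsUniversal d')
    (φ : Omega.conormal i ⟶ (Scheme.Modules.pullback i).obj Ω) (hφ : OmegaSh.IsConormalDiff i d φ)
    (φ' : Omega.conormal i' ⟶ (Scheme.Modules.pullback i').obj Ω') (hφ' : OmegaSh.IsConormalDiff i' d' φ') :
    ∃ (N : X.Modules) (α : Omega.conormal i ⟶ N) (α' : Omega.conormal i' ⟶ N)
      (π : N ⟶ (Scheme.Modules.pullback i).obj Ω) (π' : N ⟶ (Scheme.Modules.pullback i').obj Ω'),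
      α ≫ π = φ ∧ α' ≫ π' = φ' ∧
      (∃ w : α ≫ π' = 0, (ShortComplex.mk _ _ w).ShortExact) ∧
      (∃ w : α' ≫ π = 0, (ShortComplex.mk _ _ w).ShortExact) := by
  subst hp hq
  haveI : Smooth p := by rw [hp']; infer_instance
  haveI : Smooth q := by rw [hq']; infer_instance
  obtain ⟨Ωp, dp, hdp⟩ := UniversalDer.exists_universal p
  obtain ⟨Ωq, dq, hdq⟩ := UniversalDer.exists_universal q
  subst hp' hq'
  obtain ⟨cq, hcqI, hcq⟩ := exists_iso_compat (IsPullback.of_hasPullback g g') ι hd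
    hdq
  obtain ⟨cp, hcpI, hcp⟩ := exists_iso_compat (IsPullback.of_hasPullback g g').flip ι hd'
    hdp
  obtain ⟨ψ, hψ, -⟩ := S9371.result j (j ≫ ι ≫ pullback.fst g g') (ι ≫ pullback.fst g g') (𝟙 X) (Category.id_comp _)
  obtain ⟨ψ', hψ', -⟩ := S9371.result j (j ≫ ι ≫ pullback.snd g g') (ι ≫ pullback.snd g g') (𝟙 X) (Category.id_comp _)
  obtain ⟨φp, hφp⟩ := H19AbSch.OmegaGrp.exists_isConormalDiff j dp
  obtain ⟨φq, hφq⟩ := H19AbSch.OmegaGrp.exists_isConormalDiff j dq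
  refine ⟨Omega.conormal j, idMap ψ, idMap ψ', φq ≫ inv (compMap j (ι ≫ pullback.fst g g') cq), φp ≫ inv (compMap j (ι ≫ pullback.snd g g') cp),
    ?_, ?_, shortExact_side hdp hψ hφp (asIso (compMap j (ι ≫ pullback.snd g g') cp)).symm,
    shortExact_side hdq hψ' hφq (asIso (compMap j (ι ≫ pullback.fst g g') cq)).symm⟩
  · exact (Category.assoc _ _ _).symm.trans ((IsIso.comp_inv_eq _).mpr (idMap_comp_diff hψ hφq hφ hcq))
  · exact (Category.assoc _ _ _).symm.trans ((IsIso.comp_inv_eq _).mpr (idMap_comp_diff hψ' hφp hφ' hcp))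


/-- The common extension. -/
theorem exists_common {X Y V V' : Scheme.{u}} (g : V ⟶ Y) [Smooth g] (i : X ⟶ V) [IsClosedImmersion i]
    (g' : V' ⟶ Y) [Smooth g'] (i' : X ⟶ V') [IsClosedImmersion i'] (hgg : i ≫ g = i' ≫ g')
    (Ω : V.Modules) (d : OmegaSh.Der g Ω) (hd : OmegaSh.IsUniversal d)
    (Ω' : V'.Modules) (d' : OmegaSh.Der g' Ω') (hd' : OmegaSh.IsUniversal d')
    (φ : Omega.conormal i ⟶ (Scheme.Modules.pullback i).obj Ω) (hφ : OmegaSh.IsConormalDiff i d φ)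
    (φ' : Omega.conormal i' ⟶ (Scheme.Modules.pullback i').obj Ω') (hφ' : OmegaSh.IsConormalDiff i' d' φ') :
    ∃ (N : X.Modules) (α : Omega.conormal i ⟶ N) (α' : Omega.conormal i' ⟶ N)
      (π : N ⟶ (Scheme.Modules.pullback i).obj Ω) (π' : N ⟶ (Scheme.Modules.pullback i').obj Ω'),
      α ≫ π = φ ∧ α' ≫ π' = φ' ∧
      (∃ w : α ≫ π' = 0, (ShortComplex.mk _ _ w).ShortExact) ∧
      (∃ w : α' ≫ π = 0, (ShortComplex.mk _ _ w).ShortExact) := by
  let l := pullback.lift i i' hgg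
  haveI : IsImmersion l := by
    haveI : IsImmersion (l ≫ pullback.fst g g') := by rw [pullback.lift_fst]; infer_instance
    exact IsImmersion.of_comp l (pullback.fst g g')
  let U := l.coborderRange
  let j := l.liftCoborder
  exact exists_common_aux g i g' i' U.ι j (U.ι ≫ pullback.fst g g') rfl (U.ι ≫ pullback.snd g g') rfl
    (by rw [← Category.assoc, show j ≫ U.ι = l from l.liftCoborder_ι]; exact pullback.lift_fst _ _ _)
    (by rw [← Category.assoc, show j ≫ U.ι = l from l.liftCoborder_ι]; exact pullback.lift_snd _ _ _)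
    Ω d hd Ω' d' hd' φ hφ φ' hφ'

/-- The terms are finite locally free for a morphism with Koszul factorisations. -/
theorem isFinLocFree_conormal {f : X ⟶ Y} (hf : ∀ x : X, Synt.IsKoszulAt f x) (g : V ⟶ Y) [Smooth g]
    (i : X ⟶ V) [IsClosedImmersion i] (hi : i ≫ g = f) : FlatMod.IsFinLocFree (Omega.conormal i) := by
  refine H29Ref.ConormalQReg.isFinLocFree_conormal_of_quasi i fun z => ?_
  obtain ⟨U, hz, hcl, rs, hrs, hker⟩ := (S8656.result f hf g i hi).2 z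
  exact ⟨U, hz, hcl, rs,
    H29Slice.isQuasiRegular_of_isH1Regular (H29Slice.isH1Regular_of_isKoszulRegular hrs), hker⟩

theorem isFinLocFree_pullback_omega (g : V ⟶ Y) [Smooth g] {Ω : V.Modules} {d : OmegaSh.Der g Ω}
    (hd : OmegaSh.IsUniversal d) (i : X ⟶ V) :
    FlatMod.IsFinLocFree ((Scheme.Modules.pullback i).obj Ω) :=
  H16Derived.KFlat.Stalk.isFinLocFree_pullback i (H06Unram.OmegaLocFree.isFinLocFree
    ((H8Props.FormallySmoothScheme.isFormallySmoothHom_iff g).mpr fun U V hU hV hUV =>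
      RingHom.Smooth.formallySmooth (g.smooth_appLE hV hU hUV)) hd)

end Groth.Agent.H9Synt.VirtualCotangent
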